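import Cfsg.Agent.Lib.Helper9.TCData.Fi22C0.Main

set_option autoImplicit false
set_option maxRecDepth 1000000

namespace Cfsg.Agent.Helper9.TCData.Fi22C0
open Cfsg.Agent.Helper9.TC2

theorem x_184 : allRange 8648 47 (fun u => Nat.beq ((runT tab xw)^[11] u) u) = true := by decide +kernel

theorem x_185 : allRange 8695 47 (fun u => Nat.beq ((runT tab xw)^[11] u) u) = true := by decide +kernel

theorem x_186 : allRange 8742 47 (fun u => Nat.beq ((runT tab xw)^[11] u) u) = true := by decide +kernel

theorem x_187 : allRange 8789 47 (fun u => Nat.beq ((runT tab xw)^[11] u) u) = true := by decide +kernel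

theorem x_188 : allRange 8836 47 (fun u => Nat.beq ((runT tab xw)^[11] u) u) = true := by decide +kernel

theorem x_189 : allRange 8883 47 (fun u => Nat.beq ((runT tab xw)^[11] u) u) = true := by decide +kernel

theorem x_190 : allRange 8930 47 (fun u => Nat.beq ((runT tab xw)^[11] u) u) = true := by decide +kernel

theorem x_191 : allRange 8977 47 (fun u => Nat.beq ((runT tab xw)^[11] u) u) = true := by decide +kernel


end Cfsg.Agent.Helper9.TCData.Fi22C0
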