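import Cfsg.Agent.Lib.Helper9.TCData.Fi22C0.Main

set_option autoImplicit false
set_option maxRecDepth 1000000

namespace Cfsg.Agent.Helper9.TCData.Fi22C0
open Cfsg.Agent.Helper9.TC2

theorem x_192 : allRange 9024 47 (fun u => Nat.beq ((runT tab xw)^[11] u) u) = true := by decide +kernel

theorem x_193 : allRange 9071 47 (fun u => Nat.beq ((runT tab xw)^[11] u) u) = true := by decide +kernel

theorem x_194 : allRange 9118 47 (fun u => Nat.beq ((runT tab xw)^[11] u) u) = true := by decide +kernel

theorem x_195 : allRange 9165 47 (fun u => Nat.beq ((runT tab xw)^[11] u) u) = true := by decide +kernel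

theorem x_196 : allRange 9212 47 (fun u => Nat.beq ((runT tab xw)^[11] u) u) = true := by decide +kernel

theorem x_197 : allRange 9259 47 (fun u => Nat.beq ((runT tab xw)^[11] u) u) = true := by decide +kernel

theorem x_198 : allRange 9306 47 (fun u => Nat.beq ((runT tab xw)^[11] u) u) = true := by decide +kernel

theorem x_199 : allRange 9353 47 (fun u => Nat.beq ((runT tab xw)^[11] u) u) = true := by decide +kernel


end Cfsg.Agent.Helper9.TCData.Fi22C0
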