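import Cfsg.Agent.Lib.Helper9.TCData.Fi22C0.Main

set_option autoImplicit false
set_option maxRecDepth 1000000

namespace Cfsg.Agent.Helper9.TCData.Fi22C0
open Cfsg.Agent.Helper9.TC2

theorem x_200 : allRange 9400 47 (fun u => Nat.beq ((runT tab xw)^[11] u) u) = true := by decide +kernel

theorem x_201 : allRange 9447 47 (fun u => Nat.beq ((runT tab xw)^[11] u) u) = true := by decide +kernel

theorem x_202 : allRange 9494 47 (fun u => Nat.beq ((runT tab xw)^[11] u) u) = true := by decide +kernel

theorem x_203 : allRange 9541 47 (fun u => Nat.beq ((runT tab xw)^[11] u) u) = true := by decide +kernel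

theorem x_204 : allRange 9588 47 (fun u => Nat.beq ((runT tab xw)^[11] u) u) = true := by decide +kernel

theorem x_205 : allRange 9635 47 (fun u => Nat.beq ((runT tab xw)^[11] u) u) = true := by decide +kernel

theorem x_206 : allRange 9682 47 (fun u => Nat.beq ((runT tab xw)^[11] u) u) = true := by decide +kernel

theorem x_207 : allRange 9729 47 (fun u => Nat.beq ((runT tab xw)^[11] u) u) = true := by decide +kernel


end Cfsg.Agent.Helper9.TCData.Fi22C0
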