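import Cfsg.Agent.Lib.Helper9.TCData.Fi22C0.Main

set_option autoImplicit false
set_option maxRecDepth 1000000

namespace Cfsg.Agent.Helper9.TCData.Fi22C0
open Cfsg.Agent.Helper9.TC2

theorem x_208 : allRange 9776 47 (fun u => Nat.beq ((runT tab xw)^[11] u) u) = true := by decide +kernel

theorem x_209 : allRange 9823 47 (fun u => Nat.beq ((runT tab xw)^[11] u) u) = true := by decide +kernel

theorem x_210 : allRange 9870 47 (fun u => Nat.beq ((runT tab xw)^[11] u) u) = true := by decide +kernel

theorem x_211 : allRange 9917 47 (fun u => Nat.beq ((runT tab xw)^[11] u) u) = true := by decide +kernel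

theorem x_212 : allRange 9964 47 (fun u => Nat.beq ((runT tab xw)^[11] u) u) = true := by decide +kernel

theorem x_213 : allRange 10011 47 (fun u => Nat.beq ((runT tab xw)^[11] u) u) = true := by decide +kernel

theorem x_214 : allRange 10058 47 (fun u => Nat.beq ((runT tab xw)^[11] u) u) = true := by decide +kernel

theorem x_215 : allRange 10105 47 (fun u => Nat.beq ((runT tab xw)^[11] u) u) = true := by decide +kernel


end Cfsg.Agent.Helper9.TCData.Fi22C0
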