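import Cfsg.Agent.Lib.Helper9.TCData.Fi22C0.Main

set_option autoImplicit false
set_option maxRecDepth 1000000

namespace Cfsg.Agent.Helper9.TCData.Fi22C0
open Cfsg.Agent.Helper9.TC2

theorem x_216 : allRange 10152 47 (fun u => Nat.beq ((runT tab xw)^[11] u) u) = true := by decide +kernel

theorem x_217 : allRange 10199 47 (fun u => Nat.beq ((runT tab xw)^[11] u) u) = true := by decide +kernel

theorem x_218 : allRange 10246 47 (fun u => Nat.beq ((runT tab xw)^[11] u) u) = true := by decide +kernel

theorem x_219 : allRange 10293 47 (fun u => Nat.beq ((runT tab xw)^[11] u) u) = true := by decide +kernel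

theorem x_220 : allRange 10340 47 (fun u => Nat.beq ((runT tab xw)^[11] u) u) = true := by decide +kernel

theorem x_221 : allRange 10387 47 (fun u => Nat.beq ((runT tab xw)^[11] u) u) = true := by decide +kernel

theorem x_222 : allRange 10434 47 (fun u => Nat.beq ((runT tab xw)^[11] u) u) = true := by decide +kernel

theorem x_223 : allRange 10481 47 (fun u => Nat.beq ((runT tab xw)^[11] u) u) = true := by decide +kernel


end Cfsg.Agent.Helper9.TCData.Fi22C0
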