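import Cfsg.Agent.Lib.Helper9.TCData.Fi22C0.Main

set_option autoImplicit false
set_option maxRecDepth 1000000

namespace Cfsg.Agent.Helper9.TCData.Fi22C0
open Cfsg.Agent.Helper9.TC2

theorem c_4 : allRange 10668 2667 (fun u => chkCls tab u) = true := by decide +kernel

theorem c_5 : allRange 13335 2667 (fun u => chkCls tab u) = true := by decide +kernel

theorem c_6 : allRange 16002 2667 (fun u => chkCls tab u) = true := by decide +kernel

theorem c_7 : allRange 18669 1342 (fun u => chkCls tab u) = true := by decide +kernel


end Cfsg.Agent.Helper9.TCData.Fi22C0
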