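import Cfsg.Agent.Lib.Helper9.TCData.Fi22C0.Main

set_option autoImplicit false
set_option maxRecDepth 1000000

namespace Cfsg.Agent.Helper9.TCData.Fi22C0
open Cfsg.Agent.Helper9.TC2

theorem ma_4 : allRange 2028 507 (fun u => chkAux tab aux u) = true := by decide +kernel

theorem ma_5 : allRange 2535 507 (fun u => chkAux tab aux u) = true := by decide +kernel

theorem ma_6 : allRange 3042 507 (fun u => chkAux tab aux u) = true := by decide +kernel

theorem ma_7 : allRange 3549 507 (fun u => chkAux tab aux u) = true := by decide +kernel

theorem ma_8 : allRange 4056 507 (fun u => chkAux tab aux u) = true := by decide +kernel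

theorem ma_9 : allRange 4563 507 (fun u => chkAux tab aux u) = true := by decide +kernel

theorem ma_10 : allRange 5070 507 (fun u => chkAux tab aux u) = true := by decide +kernel

theorem ma_11 : allRange 5577 507 (fun u => chkAux tab aux u) = true := by decide +kernel


end Cfsg.Agent.Helper9.TCData.Fi22C0
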