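import Cfsg.Agent.Lib.Helper9.TCData.Fi22C0.Main

set_option autoImplicit false
set_option maxRecDepth 1000000

namespace Cfsg.Agent.Helper9.TCData.Fi22C0
open Cfsg.Agent.Helper9.TC2

theorem ma_20 : allRange 10140 507 (fun u => chkAux tab aux u) = true := by decide +kernel

theorem ma_21 : allRange 10647 507 (fun u => chkAux tab aux u) = true := by decide +kernel

theorem ma_22 : allRange 11154 507 (fun u => chkAux tab aux u) = true := by decide +kernel

theorem ma_23 : allRange 11661 507 (fun u => chkAux tab aux u) = true := by decide +kernel

theorem ma_24 : allRange 12168 507 (fun u => chkAux tab aux u) = true := by decide +kernel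

theorem ma_25 : allRange 12675 507 (fun u => chkAux tab aux u) = true := by decide +kernel

theorem ma_26 : allRange 13182 507 (fun u => chkAux tab aux u) = true := by decide +kernel

theorem ma_27 : allRange 13689 391 (fun u => chkAux tab aux u) = true := by decide +kernel


end Cfsg.Agent.Helper9.TCData.Fi22C0
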