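import Cfsg.Agent.Lib.Helper9.TCData.Fi22C0.Main

set_option autoImplicit false
set_option maxRecDepth 1000000

namespace Cfsg.Agent.Helper9.TCData.Fi22C0
open Cfsg.Agent.Helper9.TC2

theorem m2_32 : allRange 2272 71 (fun u => chkFix tab mwordsA u) = true := by decide +kernel

theorem m2_33 : allRange 2343 71 (fun u => chkFix tab mwordsA u) = true := by decide +kernel

theorem m2_34 : allRange 2414 71 (fun u => chkFix tab mwordsA u) = true := by decide +kernel

theorem m2_35 : allRange 2485 71 (fun u => chkFix tab mwordsA u) = true := by decide +kernel

theorem m2_36 : allRange 2556 71 (fun u => chkFix tab mwordsA u) = true := by decide +kernel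

theorem m2_37 : allRange 2627 71 (fun u => chkFix tab mwordsA u) = true := by decide +kernel

theorem m2_38 : allRange 2698 71 (fun u => chkFix tab mwordsA u) = true := by decide +kernel

theorem m2_39 : allRange 2769 71 (fun u => chkFix tab mwordsA u) = true := by decide +kernel


end Cfsg.Agent.Helper9.TCData.Fi22C0
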