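import Cfsg.Agent.Lib.Helper9.TCData.Fi22C0.Main

set_option autoImplicit false
set_option maxRecDepth 1000000

namespace Cfsg.Agent.Helper9.TCData.Fi22C0
open Cfsg.Agent.Helper9.TC2

theorem m2_40 : allRange 2840 71 (fun u => chkFix tab mwordsA u) = true := by decide +kernel

theorem m2_41 : allRange 2911 71 (fun u => chkFix tab mwordsA u) = true := by decide +kernel

theorem m2_42 : allRange 2982 71 (fun u => chkFix tab mwordsA u) = true := by decide +kernel

theorem m2_43 : allRange 3053 71 (fun u => chkFix tab mwordsA u) = true := by decide +kernel

theorem m2_44 : allRange 3124 71 (fun u => chkFix tab mwordsA u) = true := by decide +kernel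

theorem m2_45 : allRange 3195 71 (fun u => chkFix tab mwordsA u) = true := by decide +kernel

theorem m2_46 : allRange 3266 71 (fun u => chkFix tab mwordsA u) = true := by decide +kernel

theorem m2_47 : allRange 3337 71 (fun u => chkFix tab mwordsA u) = true := by decide +kernel


end Cfsg.Agent.Helper9.TCData.Fi22C0
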