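import Cfsg.Agent.Lib.Helper9.TCData.Fi22C0.Main

set_option autoImplicit false
set_option maxRecDepth 1000000

namespace Cfsg.Agent.Helper9.TCData.Fi22C0
open Cfsg.Agent.Helper9.TC2

theorem m2_160 : allRange 11360 71 (fun u => chkFix tab mwordsA u) = true := by decide +kernel

theorem m2_161 : allRange 11431 71 (fun u => chkFix tab mwordsA u) = true := by decide +kernel

theorem m2_162 : allRange 11502 71 (fun u => chkFix tab mwordsA u) = true := by decide +kernel

theorem m2_163 : allRange 11573 71 (fun u => chkFix tab mwordsA u) = true := by decide +kernel

theorem m2_164 : allRange 11644 71 (fun u => chkFix tab mwordsA u) = true := by decide +kernel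

theorem m2_165 : allRange 11715 71 (fun u => chkFix tab mwordsA u) = true := by decide +kernel

theorem m2_166 : allRange 11786 71 (fun u => chkFix tab mwordsA u) = true := by decide +kernel

theorem m2_167 : allRange 11857 71 (fun u => chkFix tab mwordsA u) = true := by decide +kernel


end Cfsg.Agent.Helper9.TCData.Fi22C0
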