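import Cfsg.Agent.Lib.Helper9.TCData.Fi22C0.Main

set_option autoImplicit false
set_option maxRecDepth 1000000

namespace Cfsg.Agent.Helper9.TCData.Fi22C0
open Cfsg.Agent.Helper9.TC2

theorem m2_168 : allRange 11928 71 (fun u => chkFix tab mwordsA u) = true := by decide +kernel

theorem m2_169 : allRange 11999 71 (fun u => chkFix tab mwordsA u) = true := by decide +kernel

theorem m2_170 : allRange 12070 71 (fun u => chkFix tab mwordsA u) = true := by decide +kernel

theorem m2_171 : allRange 12141 71 (fun u => chkFix tab mwordsA u) = true := by decide +kernel

theorem m2_172 : allRange 12212 71 (fun u => chkFix tab mwordsA u) = true := by decide +kernel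

theorem m2_173 : allRange 12283 71 (fun u => chkFix tab mwordsA u) = true := by decide +kernel

theorem m2_174 : allRange 12354 71 (fun u => chkFix tab mwordsA u) = true := by decide +kernel

theorem m2_175 : allRange 12425 71 (fun u => chkFix tab mwordsA u) = true := by decide +kernel


end Cfsg.Agent.Helper9.TCData.Fi22C0
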