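import Cfsg.Agent.Lib.Helper9.TCData.Fi22C0.Main

set_option autoImplicit false
set_option maxRecDepth 1000000

namespace Cfsg.Agent.Helper9.TCData.Fi22C0
open Cfsg.Agent.Helper9.TC2

theorem m2_192 : allRange 13632 71 (fun u => chkFix tab mwordsA u) = true := by decide +kernel

theorem m2_193 : allRange 13703 71 (fun u => chkFix tab mwordsA u) = true := by decide +kernel

theorem m2_194 : allRange 13774 71 (fun u => chkFix tab mwordsA u) = true := by decide +kernel

theorem m2_195 : allRange 13845 71 (fun u => chkFix tab mwordsA u) = true := by decide +kernel

theorem m2_196 : allRange 13916 71 (fun u => chkFix tab mwordsA u) = true := by decide +kernel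

theorem m2_197 : allRange 13987 71 (fun u => chkFix tab mwordsA u) = true := by decide +kernel

theorem m2_198 : allRange 14058 22 (fun u => chkFix tab mwordsA u) = true := by decide +kernel


end Cfsg.Agent.Helper9.TCData.Fi22C0
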