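import Cfsg.Agent.Lib.Helper9.TCData.Fi22C0.Main

set_option autoImplicit false
set_option maxRecDepth 1000000

namespace Cfsg.Agent.Helper9.TCData.Fi22C0
open Cfsg.Agent.Helper9.TC2

theorem o1_24 : allRange 9240 385 (fun u => chkO1 tab orb u) = true := by decide +kernel

theorem o1_25 : allRange 9625 385 (fun u => chkO1 tab orb u) = true := by decide +kernel

theorem o1_26 : allRange 10010 385 (fun u => chkO1 tab orb u) = true := by decide +kernel

theorem o1_27 : allRange 10395 385 (fun u => chkO1 tab orb u) = true := by decide +kernel

theorem o1_28 : allRange 10780 385 (fun u => chkO1 tab orb u) = true := by decide +kernel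

theorem o1_29 : allRange 11165 385 (fun u => chkO1 tab orb u) = true := by decide +kernel

theorem o1_30 : allRange 11550 385 (fun u => chkO1 tab orb u) = true := by decide +kernel

theorem o1_31 : allRange 11935 385 (fun u => chkO1 tab orb u) = true := by decide +kernel


end Cfsg.Agent.Helper9.TCData.Fi22C0
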