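import Cfsg.Agent.Lib.Helper9.TCData.Fi22C0.Main

set_option autoImplicit false
set_option maxRecDepth 1000000

namespace Cfsg.Agent.Helper9.TCData.Fi22C0
open Cfsg.Agent.Helper9.TC2

theorem sl_32 : allRange 12960 405 (fun u => chkSlp tab slp u) = true := by decide +kernel

theorem sl_33 : allRange 13365 405 (fun u => chkSlp tab slp u) = true := by decide +kernel

theorem sl_34 : allRange 13770 310 (fun u => chkSlp tab slp u) = true := by decide +kernel


end Cfsg.Agent.Helper9.TCData.Fi22C0
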