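import Cfsg.Agent.Lib.Helper9.TCData.Fi22C0.Main

set_option autoImplicit false
set_option maxRecDepth 1000000

namespace Cfsg.Agent.Helper9.TCData.Fi22C0
open Cfsg.Agent.Helper9.TC2

theorem e6_5 : allRange 12450 2506 (fun u => chkE tab 6 u) = true := by decide +kernel

theorem e6_6 : allRange 14956 2825 (fun u => chkE tab 6 u) = true := by decide +kernel

theorem e6_7 : allRange 17781 2230 (fun u => chkE tab 6 u) = true := by decide +kernel

theorem e7_0 : allRange 0 2707 (fun u => chkE tab 7 u) = true := by decide +kernel

theorem e7_1 : allRange 2707 2757 (fun u => chkE tab 7 u) = true := by decide +kernel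

theorem e7_2 : allRange 5464 3216 (fun u => chkE tab 7 u) = true := by decide +kernel

theorem e7_3 : allRange 8680 3427 (fun u => chkE tab 7 u) = true := by decide +kernel

theorem e7_4 : allRange 12107 3199 (fun u => chkE tab 7 u) = true := by decide +kernel


end Cfsg.Agent.Helper9.TCData.Fi22C0
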