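import Cfsg.Agent.Lib.Helper9.TCData.Fi22C0.Main

set_option autoImplicit false
set_option maxRecDepth 1000000

namespace Cfsg.Agent.Helper9.TCData.Fi22C0
open Cfsg.Agent.Helper9.TC2

theorem tr6x_6 : allRange 6000 1000 (fun u => chkTree tab (lidx 6) (lpar 6) (lgi 6) 6 [8] u) = true := by decide +kernel

theorem tr6x_7 : allRange 7000 1000 (fun u => chkTree tab (lidx 6) (lpar 6) (lgi 6) 6 [8] u) = true := by decide +kernel

theorem tr6x_8 : allRange 8000 1000 (fun u => chkTree tab (lidx 6) (lpar 6) (lgi 6) 6 [8] u) = true := by decide +kernel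

theorem tr6x_9 : allRange 9000 1000 (fun u => chkTree tab (lidx 6) (lpar 6) (lgi 6) 6 [8] u) = true := by decide +kernel

theorem tr6x_10 : allRange 10000 1000 (fun u => chkTree tab (lidx 6) (lpar 6) (lgi 6) 6 [8] u) = true := by decide +kernel

theorem tr6x_11 : allRange 11000 1000 (fun u => chkTree tab (lidx 6) (lpar 6) (lgi 6) 6 [8] u) = true := by decide +kernel

theorem tr6x_12 : allRange 12000 1000 (fun u => chkTree tab (lidx 6) (lpar 6) (lgi 6) 6 [8] u) = true := by decide +kernel

theorem tr6x_13 : allRange 13000 1000 (fun u => chkTree tab (lidx 6) (lpar 6) (lgi 6) 6 [8] u) = true := by decide +kernel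


end Cfsg.Agent.Helper9.TCData.Fi22C0
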