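import Cfsg.Agent.Lib.Helper9.TCData.Fi22C0.S0
import Cfsg.Agent.Lib.Helper9.TCData.Fi22C0.S1
import Cfsg.Agent.Lib.Helper9.TCData.Fi22C0.S2
import Cfsg.Agent.Lib.Helper9.TCData.Fi22C0.S3
import Cfsg.Agent.Lib.Helper9.TCData.Fi22C0.S4
import Cfsg.Agent.Lib.Helper9.TCData.Fi22C0.S5
import Cfsg.Agent.Lib.Helper9.TCData.Fi22C0.S6
import Cfsg.Agent.Lib.Helper9.TCData.Fi22C0.S7
import Cfsg.Agent.Lib.Helper9.TCData.Fi22C0.S8
import Cfsg.Agent.Lib.Helper9.TCData.Fi22C0.S9
import Cfsg.Agent.Lib.Helper9.TCData.Fi22C0.S10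
import Cfsg.Agent.Lib.Helper9.TCData.Fi22C0.S11
import Cfsg.Agent.Lib.Helper9.TCData.Fi22C0.S12
import Cfsg.Agent.Lib.Helper9.TCData.Fi22C0.S13
import Cfsg.Agent.Lib.Helper9.TCData.Fi22C0.S14
import Cfsg.Agent.Lib.Helper9.TCData.Fi22C0.S15
import Cfsg.Agent.Lib.Helper9.TCData.Fi22C0.S16
import Cfsg.Agent.Lib.Helper9.TCData.Fi22C0.S17
import Cfsg.Agent.Lib.Helper9.TCData.Fi22C0.S18
import Cfsg.Agent.Lib.Helper9.TCData.Fi22C0.S19
import Cfsg.Agent.Lib.Helper9.TCData.Fi22C0.S20
import Cfsg.Agent.Lib.Helper9.TCData.Fi22C0.S21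
import Cfsg.Agent.Lib.Helper9.TCData.Fi22C0.S22
import Cfsg.Agent.Lib.Helper9.TCData.Fi22C0.S23
import Cfsg.Agent.Lib.Helper9.TCData.Fi22C0.S24
import Cfsg.Agent.Lib.Helper9.TCData.Fi22C0.S25
import Cfsg.Agent.Lib.Helper9.TCData.Fi22C0.S26
import Cfsg.Agent.Lib.Helper9.TCData.Fi22C0.S27
import Cfsg.Agent.Lib.Helper9.TCData.Fi22C0.S28
import Cfsg.Agent.Lib.Helper9.TCData.Fi22C0.S29
import Cfsg.Agent.Lib.Helper9.TCData.Fi22C0.S30
import Cfsg.Agent.Lib.Helper9.TCData.Fi22C0.S31
import Cfsg.Agent.Lib.Helper9.TCData.Fi22C0.S32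
import Cfsg.Agent.Lib.Helper9.TCData.Fi22C0.S33
import Cfsg.Agent.Lib.Helper9.TCData.Fi22C0.S34
import Cfsg.Agent.Lib.Helper9.TCData.Fi22C0.S35
import Cfsg.Agent.Lib.Helper9.TCData.Fi22C0.S36
import Cfsg.Agent.Lib.Helper9.TCData.Fi22C0.S37
import Cfsg.Agent.Lib.Helper9.TCData.Fi22C0.S38
import Cfsg.Agent.Lib.Helper9.TCData.Fi22C0.S39
import Cfsg.Agent.Lib.Helper9.TCData.Fi22C0.S40
import Cfsg.Agent.Lib.Helper9.TCData.Fi22C0.S41
import Cfsg.Agent.Lib.Helper9.TCData.Fi22C0.S42
import Cfsg.Agent.Lib.Helper9.TCData.Fi22C0.S43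
import Cfsg.Agent.Lib.Helper9.TCData.Fi22C0.S44
import Cfsg.Agent.Lib.Helper9.TCData.Fi22C0.S45
import Cfsg.Agent.Lib.Helper9.TCData.Fi22C0.S46
import Cfsg.Agent.Lib.Helper9.TCData.Fi22C0.S47
import Cfsg.Agent.Lib.Helper9.TCData.Fi22C0.S48
import Cfsg.Agent.Lib.Helper9.TCData.Fi22C0.S49
import Cfsg.Agent.Lib.Helper9.TCData.Fi22C0.S50
import Cfsg.Agent.Lib.Helper9.TCData.Fi22C0.S51
import Cfsg.Agent.Lib.Helper9.TCData.Fi22C0.S52
import Cfsg.Agent.Lib.Helper9.TCData.Fi22C0.S53
import Cfsg.Agent.Lib.Helper9.TCData.Fi22C0.S54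
import Cfsg.Agent.Lib.Helper9.TCData.Fi22C0.S55
import Cfsg.Agent.Lib.Helper9.TCData.Fi22C0.S56
import Cfsg.Agent.Lib.Helper9.TCData.Fi22C0.S57
import Cfsg.Agent.Lib.Helper9.TCData.Fi22C0.S58
import Cfsg.Agent.Lib.Helper9.TCData.Fi22C0.S59
import Cfsg.Agent.Lib.Helper9.TCData.Fi22C0.S60
import Cfsg.Agent.Lib.Helper9.TCData.Fi22C0.S61
import Cfsg.Agent.Lib.Helper9.TCData.Fi22C0.S62
import Cfsg.Agent.Lib.Helper9.TCData.Fi22C0.S63
import Cfsg.Agent.Lib.Helper9.TCData.Fi22C0.S64
import Cfsg.Agent.Lib.Helper9.TCData.Fi22C0.S65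
import Cfsg.Agent.Lib.Helper9.TCData.Fi22C0.S66
import Cfsg.Agent.Lib.Helper9.TCData.Fi22C0.S67
import Cfsg.Agent.Lib.Helper9.TCData.Fi22C0.S68
import Cfsg.Agent.Lib.Helper9.TCData.Fi22C0.S69
import Cfsg.Agent.Lib.Helper9.TCData.Fi22C0.S70
import Cfsg.Agent.Lib.Helper9.TCData.Fi22C0.S71
import Cfsg.Agent.Lib.Helper9.TCData.Fi22C0.S72
import Cfsg.Agent.Lib.Helper9.TCData.Fi22C0.S73
import Cfsg.Agent.Lib.Helper9.TCData.Fi22C0.S74
import Cfsg.Agent.Lib.Helper9.TCData.Fi22C0.S75
import Cfsg.Agent.Lib.Helper9.TCData.Fi22C0.S76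
import Cfsg.Agent.Lib.Helper9.TCData.Fi22C0.S77
import Cfsg.Agent.Lib.Helper9.TCData.Fi22C0.S78
import Cfsg.Agent.Lib.Helper9.TCData.Fi22C0.S79
import Cfsg.Agent.Lib.Helper9.TCData.Fi22C0.S80
import Cfsg.Agent.Lib.Helper9.TCData.Fi22C0.S81
import Cfsg.Agent.Lib.Helper9.TCData.Fi22C0.S82
import Cfsg.Agent.Lib.Helper9.TCData.Fi22C0.S83
import Cfsg.Agent.Lib.Helper9.TCData.Fi22C0.S84
import Cfsg.Agent.Lib.Helper9.TCData.Fi22C0.S85
import Cfsg.Agent.Lib.Helper9.TCData.Fi22C0.S86
import Cfsg.Agent.Lib.Helper9.TCData.Fi22C0.S87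
import Cfsg.Agent.Lib.Helper9.TCData.Fi22C0.S88
import Cfsg.Agent.Lib.Helper9.TCData.Fi22C0.S89
import Cfsg.Agent.Lib.Helper9.TCData.Fi22C0.S90
import Cfsg.Agent.Lib.Helper9.TCData.Fi22C0.S91
import Cfsg.Agent.Lib.Helper9.TCData.Fi22C0.S92
import Cfsg.Agent.Lib.Helper9.TCData.Fi22C0.S93
import Cfsg.Agent.Lib.Helper9.TCData.Fi22C0.S94
import Cfsg.Agent.Lib.Helper9.TCData.Fi22C0.S95
import Cfsg.Agent.Lib.Helper9.TCData.Fi22C0.S96
import Cfsg.Agent.Lib.Helper9.TCData.Fi22C0.S97
import Cfsg.Agent.Lib.Helper9.TCData.Fi22C0.S98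
import Cfsg.Agent.Lib.Helper9.TCData.Fi22C0.S99
import Cfsg.Agent.Lib.Helper9.TCData.Fi22C0.S100
import Cfsg.Agent.Lib.Helper9.TCData.Fi22C0.S101
import Cfsg.Agent.Lib.Helper9.TCData.Fi22C0.S102
import Cfsg.Agent.Lib.Helper9.TCData.Fi22C0.S103
import Cfsg.Agent.Lib.Helper9.TCData.Fi22C0.S104
import Cfsg.Agent.Lib.Helper9.TCData.Fi22C0.S105
import Cfsg.Agent.Lib.Helper9.TCData.Fi22C0.S106
import Cfsg.Agent.Lib.Helper9.TCData.Fi22C0.S107
import Cfsg.Agent.Lib.Helper9.TCData.Fi22C0.S108
import Cfsg.Agent.Lib.Helper9.TCData.Fi22C0.S109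
import Cfsg.Agent.Lib.Helper9.TCData.Fi22C0.S110
import Cfsg.Agent.Lib.Helper9.TCData.Fi22C0.S111
import Cfsg.Agent.Lib.Helper9.TCData.Fi22C0.S112
import Cfsg.Agent.Lib.Helper9.TCData.Fi22C0.S113
import Cfsg.Agent.Lib.Helper9.TCData.Fi22C0.S114

set_option autoImplicit false
set_option maxRecDepth 1000000

namespace Cfsg.Agent.Helper9.TCData.Fi22C0
open Cfsg.Agent.Helper9.TC2


theorem hE0 : ∀ u < 20011, chkE tab 0 u = true := by
  have h0 : ∀ u < 0, (fun u => chkE tab 0 u) u = true := range_zero
  have h1 : ∀ u < 2035, (fun u => chkE tab 0 u) u = true := ext_range (a := 0) (len := 2035) h0 e0_0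
  have h2 : ∀ u < 4111, (fun u => chkE tab 0 u) u = true := ext_range (a := 2035) (len := 2076) h1 e0_1
  have h3 : ∀ u < 6252, (fun u => chkE tab 0 u) u = true := ext_range (a := 4111) (len := 2141) h2 e0_2
  have h4 : ∀ u < 9361, (fun u => chkE tab 0 u) u = true := ext_range (a := 6252) (len := 3109) h3 e0_3
  have h5 : ∀ u < 11822, (fun u => chkE tab 0 u) u = true := ext_range (a := 9361) (len := 2461) h4 e0_4
  have h6 : ∀ u < 14220, (fun u => chkE tab 0 u) u = true := ext_range (a := 11822) (len := 2398) h5 e0_5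
  have h7 : ∀ u < 16637, (fun u => chkE tab 0 u) u = true := ext_range (a := 14220) (len := 2417) h6 e0_6
  have h8 : ∀ u < 19264, (fun u => chkE tab 0 u) u = true := ext_range (a := 16637) (len := 2627) h7 e0_7
  have h9 : ∀ u < 20011, (fun u => chkE tab 0 u) u = true := ext_range (a := 19264) (len := 747) h8 e0_8
  exact h9

theorem hE1 : ∀ u < 20011, chkE tab 1 u = true := by
  have h0 : ∀ u < 0, (fun u => chkE tab 1 u) u = true := range_zero
  have h1 : ∀ u < 2056, (fun u => chkE tab 1 u) u = true := ext_range (a := 0) (len := 2056) h0 e1_0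
  have h2 : ∀ u < 4148, (fun u => chkE tab 1 u) u = true := ext_range (a := 2056) (len := 2092) h1 e1_1
  have h3 : ∀ u < 6297, (fun u => chkE tab 1 u) u = true := ext_range (a := 4148) (len := 2149) h2 e1_2
  have h4 : ∀ u < 9286, (fun u => chkE tab 1 u) u = true := ext_range (a := 6297) (len := 2989) h3 e1_3
  have h5 : ∀ u < 11887, (fun u => chkE tab 1 u) u = true := ext_range (a := 9286) (len := 2601) h4 e1_4
  have h6 : ∀ u < 14279, (fun u => chkE tab 1 u) u = true := ext_range (a := 11887) (len := 2392) h5 e1_5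
  have h7 : ∀ u < 16707, (fun u => chkE tab 1 u) u = true := ext_range (a := 14279) (len := 2428) h6 e1_6
  have h8 : ∀ u < 19272, (fun u => chkE tab 1 u) u = true := ext_range (a := 16707) (len := 2565) h7 e1_7
  have h9 : ∀ u < 20011, (fun u => chkE tab 1 u) u = true := ext_range (a := 19272) (len := 739) h8 e1_8
  exact h9

theorem hE2 : ∀ u < 20011, chkE tab 2 u = true := by
  have h0 : ∀ u < 0, (fun u => chkE tab 2 u) u = true := range_zero
  have h1 : ∀ u < 2071, (fun u => chkE tab 2 u) u = true := ext_range (a := 0) (len := 2071) h0 e2_0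
  have h2 : ∀ u < 4215, (fun u => chkE tab 2 u) u = true := ext_range (a := 2071) (len := 2144) h1 e2_1
  have h3 : ∀ u < 6456, (fun u => chkE tab 2 u) u = true := ext_range (a := 4215) (len := 2241) h2 e2_2
  have h4 : ∀ u < 9726, (fun u => chkE tab 2 u) u = true := ext_range (a := 6456) (len := 3270) h3 e2_3
  have h5 : ∀ u < 12210, (fun u => chkE tab 2 u) u = true := ext_range (a := 9726) (len := 2484) h4 e2_4
  have h6 : ∀ u < 14676, (fun u => chkE tab 2 u) u = true := ext_range (a := 12210) (len := 2466) h5 e2_5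
  have h7 : ∀ u < 17375, (fun u => chkE tab 2 u) u = true := ext_range (a := 14676) (len := 2699) h6 e2_6
  have h8 : ∀ u < 19941, (fun u => chkE tab 2 u) u = true := ext_range (a := 17375) (len := 2566) h7 e2_7
  have h9 : ∀ u < 20011, (fun u => chkE tab 2 u) u = true := ext_range (a := 19941) (len := 70) h8 e2_8
  exact h9

theorem hE3 : ∀ u < 20011, chkE tab 3 u = true := by
  have h0 : ∀ u < 0, (fun u => chkE tab 3 u) u = true := range_zero
  have h1 : ∀ u < 2158, (fun u => chkE tab 3 u) u = true := ext_range (a := 0) (len := 2158) h0 e3_0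
  have h2 : ∀ u < 4502, (fun u => chkE tab 3 u) u = true := ext_range (a := 2158) (len := 2344) h1 e3_1
  have h3 : ∀ u < 6864, (fun u => chkE tab 3 u) u = true := ext_range (a := 4502) (len := 2362) h2 e3_2
  have h4 : ∀ u < 10313, (fun u => chkE tab 3 u) u = true := ext_range (a := 6864) (len := 3449) h3 e3_3
  have h5 : ∀ u < 12735, (fun u => chkE tab 3 u) u = true := ext_range (a := 10313) (len := 2422) h4 e3_4
  have h6 : ∀ u < 15565, (fun u => chkE tab 3 u) u = true := ext_range (a := 12735) (len := 2830) h5 e3_5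
  have h7 : ∀ u < 18227, (fun u => chkE tab 3 u) u = true := ext_range (a := 15565) (len := 2662) h6 e3_6
  have h8 : ∀ u < 20011, (fun u => chkE tab 3 u) u = true := ext_range (a := 18227) (len := 1784) h7 e3_7
  exact h8

theorem hE4 : ∀ u < 20011, chkE tab 4 u = true := by
  have h0 : ∀ u < 0, (fun u => chkE tab 4 u) u = true := range_zero
  have h1 : ∀ u < 2216, (fun u => chkE tab 4 u) u = true := ext_range (a := 0) (len := 2216) h0 e4_0
  have h2 : ∀ u < 4459, (fun u => chkE tab 4 u) u = true := ext_range (a := 2216) (len := 2243) h1 e4_1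
  have h3 : ∀ u < 6816, (fun u => chkE tab 4 u) u = true := ext_range (a := 4459) (len := 2357) h2 e4_2
  have h4 : ∀ u < 10273, (fun u => chkE tab 4 u) u = true := ext_range (a := 6816) (len := 3457) h3 e4_3
  have h5 : ∀ u < 12565, (fun u => chkE tab 4 u) u = true := ext_range (a := 10273) (len := 2292) h4 e4_4
  have h6 : ∀ u < 15080, (fun u => chkE tab 4 u) u = true := ext_range (a := 12565) (len := 2515) h5 e4_5
  have h7 : ∀ u < 18271, (fun u => chkE tab 4 u) u = true := ext_range (a := 15080) (len := 3191) h6 e4_6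
  have h8 : ∀ u < 20011, (fun u => chkE tab 4 u) u = true := ext_range (a := 18271) (len := 1740) h7 e4_7
  exact h8

theorem hE5 : ∀ u < 20011, chkE tab 5 u = true := by
  have h0 : ∀ u < 0, (fun u => chkE tab 5 u) u = true := range_zero
  have h1 : ∀ u < 2317, (fun u => chkE tab 5 u) u = true := ext_range (a := 0) (len := 2317) h0 e5_0
  have h2 : ∀ u < 4465, (fun u => chkE tab 5 u) u = true := ext_range (a := 2317) (len := 2148) h1 e5_1
  have h3 : ∀ u < 6647, (fun u => chkE tab 5 u) u = true := ext_range (a := 4465) (len := 2182) h2 e5_2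
  have h4 : ∀ u < 9951, (fun u => chkE tab 5 u) u = true := ext_range (a := 6647) (len := 3304) h3 e5_3
  have h5 : ∀ u < 12283, (fun u => chkE tab 5 u) u = true := ext_range (a := 9951) (len := 2332) h4 e5_4
  have h6 : ∀ u < 14526, (fun u => chkE tab 5 u) u = true := ext_range (a := 12283) (len := 2243) h5 e5_5
  have h7 : ∀ u < 17227, (fun u => chkE tab 5 u) u = true := ext_range (a := 14526) (len := 2701) h6 e5_6
  have h8 : ∀ u < 20011, (fun u => chkE tab 5 u) u = true := ext_range (a := 17227) (len := 2784) h7 e5_7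
  exact h8

theorem hE6 : ∀ u < 20011, chkE tab 6 u = true := by
  have h0 : ∀ u < 0, (fun u => chkE tab 6 u) u = true := range_zero
  have h1 : ∀ u < 2451, (fun u => chkE tab 6 u) u = true := ext_range (a := 0) (len := 2451) h0 e6_0
  have h2 : ∀ u < 4678, (fun u => chkE tab 6 u) u = true := ext_range (a := 2451) (len := 2227) h1 e6_1
  have h3 : ∀ u < 6804, (fun u => chkE tab 6 u) u = true := ext_range (a := 4678) (len := 2126) h2 e6_2
  have h4 : ∀ u < 10091, (fun u => chkE tab 6 u) u = true := ext_range (a := 6804) (len := 3287) h3 e6_3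
  have h5 : ∀ u < 12450, (fun u => chkE tab 6 u) u = true := ext_range (a := 10091) (len := 2359) h4 e6_4
  have h6 : ∀ u < 14956, (fun u => chkE tab 6 u) u = true := ext_range (a := 12450) (len := 2506) h5 e6_5
  have h7 : ∀ u < 17781, (fun u => chkE tab 6 u) u = true := ext_range (a := 14956) (len := 2825) h6 e6_6
  have h8 : ∀ u < 20011, (fun u => chkE tab 6 u) u = true := ext_range (a := 17781) (len := 2230) h7 e6_7
  exact h8

theorem hE7 : ∀ u < 20011, chkE tab 7 u = true := by
  have h0 : ∀ u < 0, (fun u => chkE tab 7 u) u = true := range_zero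
  have h1 : ∀ u < 2707, (fun u => chkE tab 7 u) u = true := ext_range (a := 0) (len := 2707) h0 e7_0
  have h2 : ∀ u < 5464, (fun u => chkE tab 7 u) u = true := ext_range (a := 2707) (len := 2757) h1 e7_1
  have h3 : ∀ u < 8680, (fun u => chkE tab 7 u) u = true := ext_range (a := 5464) (len := 3216) h2 e7_2
  have h4 : ∀ u < 12107, (fun u => chkE tab 7 u) u = true := ext_range (a := 8680) (len := 3427) h3 e7_3
  have h5 : ∀ u < 15306, (fun u => chkE tab 7 u) u = true := ext_range (a := 12107) (len := 3199) h4 e7_4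
  have h6 : ∀ u < 17752, (fun u => chkE tab 7 u) u = true := ext_range (a := 15306) (len := 2446) h5 e7_5
  have h7 : ∀ u < 20011, (fun u => chkE tab 7 u) u = true := ext_range (a := 17752) (len := 2259) h6 e7_6
  exact h7

theorem hE8 : ∀ u < 20011, chkE tab 8 u = true := by
  have h0 : ∀ u < 0, (fun u => chkE tab 8 u) u = true := range_zero
  have h1 : ∀ u < 2684, (fun u => chkE tab 8 u) u = true := ext_range (a := 0) (len := 2684) h0 e8_0
  have h2 : ∀ u < 6481, (fun u => chkE tab 8 u) u = true := ext_range (a := 2684) (len := 3797) h1 e8_1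
  have h3 : ∀ u < 10803, (fun u => chkE tab 8 u) u = true := ext_range (a := 6481) (len := 4322) h2 e8_2
  have h4 : ∀ u < 13863, (fun u => chkE tab 8 u) u = true := ext_range (a := 10803) (len := 3060) h3 e8_3
  have h5 : ∀ u < 16487, (fun u => chkE tab 8 u) u = true := ext_range (a := 13863) (len := 2624) h4 e8_4
  have h6 : ∀ u < 18993, (fun u => chkE tab 8 u) u = true := ext_range (a := 16487) (len := 2506) h5 e8_5
  have h7 : ∀ u < 20011, (fun u => chkE tab 8 u) u = true := ext_range (a := 18993) (len := 1018) h6 e8_6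
  exact h7

theorem hL : ∀ u < 20011, chkL tab u = true := by
  have h0 : ∀ u < 0, (fun u => chkL tab u) u = true := range_zero
  have h1 : ∀ u < 3724, (fun u => chkL tab u) u = true := ext_range (a := 0) (len := 3724) h0 l_0
  have h2 : ∀ u < 5879, (fun u => chkL tab u) u = true := ext_range (a := 3724) (len := 2155) h1 l_1
  have h3 : ∀ u < 8078, (fun u => chkL tab u) u = true := ext_range (a := 5879) (len := 2199) h2 l_2
  have h4 : ∀ u < 20011, (fun u => chkL tab u) u = true := ext_range (a := 8078) (len := 11933) h3 l_3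
  exact h4

theorem hF : ∀ u < 14080, chkFin tab u = true := by
  have h0 : ∀ u < 0, (fun u => chkFin tab u) u = true := range_zero
  have h1 : ∀ u < 276, (fun u => chkFin tab u) u = true := ext_range (a := 0) (len := 276) h0 f_0
  have h2 : ∀ u < 552, (fun u => chkFin tab u) u = true := ext_range (a := 276) (len := 276) h1 f_1
  have h3 : ∀ u < 828, (fun u => chkFin tab u) u = true := ext_range (a := 552) (len := 276) h2 f_2
  have h4 : ∀ u < 1104, (fun u => chkFin tab u) u = true := ext_range (a := 828) (len := 276) h3 f_3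
  have h5 : ∀ u < 1380, (fun u => chkFin tab u) u = true := ext_range (a := 1104) (len := 276) h4 f_4
  have h6 : ∀ u < 1656, (fun u => chkFin tab u) u = true := ext_range (a := 1380) (len := 276) h5 f_5
  have h7 : ∀ u < 1932, (fun u => chkFin tab u) u = true := ext_range (a := 1656) (len := 276) h6 f_6
  have h8 : ∀ u < 2208, (fun u => chkFin tab u) u = true := ext_range (a := 1932) (len := 276) h7 f_7
  have h9 : ∀ u < 2484, (fun u => chkFin tab u) u = true := ext_range (a := 2208) (len := 276) h8 f_8
  have h10 : ∀ u < 2760, (fun u => chkFin tab u) u = true := ext_range (a := 2484) (len := 276) h9 f_9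
  have h11 : ∀ u < 3036, (fun u => chkFin tab u) u = true := ext_range (a := 2760) (len := 276) h10 f_10
  have h12 : ∀ u < 3312, (fun u => chkFin tab u) u = true := ext_range (a := 3036) (len := 276) h11 f_11
  have h13 : ∀ u < 3588, (fun u => chkFin tab u) u = true := ext_range (a := 3312) (len := 276) h12 f_12
  have h14 : ∀ u < 3864, (fun u => chkFin tab u) u = true := ext_range (a := 3588) (len := 276) h13 f_13
  have h15 : ∀ u < 4140, (fun u => chkFin tab u) u = true := ext_range (a := 3864) (len := 276) h14 f_14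
  have h16 : ∀ u < 4416, (fun u => chkFin tab u) u = true := ext_range (a := 4140) (len := 276) h15 f_15
  have h17 : ∀ u < 4692, (fun u => chkFin tab u) u = true := ext_range (a := 4416) (len := 276) h16 f_16
  have h18 : ∀ u < 4968, (fun u => chkFin tab u) u = true := ext_range (a := 4692) (len := 276) h17 f_17
  have h19 : ∀ u < 5244, (fun u => chkFin tab u) u = true := ext_range (a := 4968) (len := 276) h18 f_18
  have h20 : ∀ u < 5520, (fun u => chkFin tab u) u = true := ext_range (a := 5244) (len := 276) h19 f_19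
  have h21 : ∀ u < 5796, (fun u => chkFin tab u) u = true := ext_range (a := 5520) (len := 276) h20 f_20
  have h22 : ∀ u < 6072, (fun u => chkFin tab u) u = true := ext_range (a := 5796) (len := 276) h21 f_21
  have h23 : ∀ u < 6348, (fun u => chkFin tab u) u = true := ext_range (a := 6072) (len := 276) h22 f_22
  have h24 : ∀ u < 6624, (fun u => chkFin tab u) u = true := ext_range (a := 6348) (len := 276) h23 f_23
  have h25 : ∀ u < 6900, (fun u => chkFin tab u) u = true := ext_range (a := 6624) (len := 276) h24 f_24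
  have h26 : ∀ u < 7176, (fun u => chkFin tab u) u = true := ext_range (a := 6900) (len := 276) h25 f_25
  have h27 : ∀ u < 7452, (fun u => chkFin tab u) u = true := ext_range (a := 7176) (len := 276) h26 f_26
  have h28 : ∀ u < 7728, (fun u => chkFin tab u) u = true := ext_range (a := 7452) (len := 276) h27 f_27
  have h29 : ∀ u < 8004, (fun u => chkFin tab u) u = true := ext_range (a := 7728) (len := 276) h28 f_28
  have h30 : ∀ u < 8280, (fun u => chkFin tab u) u = true := ext_range (a := 8004) (len := 276) h29 f_29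
  have h31 : ∀ u < 8556, (fun u => chkFin tab u) u = true := ext_range (a := 8280) (len := 276) h30 f_30
  have h32 : ∀ u < 8832, (fun u => chkFin tab u) u = true := ext_range (a := 8556) (len := 276) h31 f_31
  have h33 : ∀ u < 9108, (fun u => chkFin tab u) u = true := ext_range (a := 8832) (len := 276) h32 f_32
  have h34 : ∀ u < 9384, (fun u => chkFin tab u) u = true := ext_range (a := 9108) (len := 276) h33 f_33
  have h35 : ∀ u < 9660, (fun u => chkFin tab u) u = true := ext_range (a := 9384) (len := 276) h34 f_34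
  have h36 : ∀ u < 9936, (fun u => chkFin tab u) u = true := ext_range (a := 9660) (len := 276) h35 f_35
  have h37 : ∀ u < 10212, (fun u => chkFin tab u) u = true := ext_range (a := 9936) (len := 276) h36 f_36
  have h38 : ∀ u < 10488, (fun u => chkFin tab u) u = true := ext_range (a := 10212) (len := 276) h37 f_37
  have h39 : ∀ u < 10764, (fun u => chkFin tab u) u = true := ext_range (a := 10488) (len := 276) h38 f_38
  have h40 : ∀ u < 11040, (fun u => chkFin tab u) u = true := ext_range (a := 10764) (len := 276) h39 f_39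
  have h41 : ∀ u < 11316, (fun u => chkFin tab u) u = true := ext_range (a := 11040) (len := 276) h40 f_40
  have h42 : ∀ u < 11592, (fun u => chkFin tab u) u = true := ext_range (a := 11316) (len := 276) h41 f_41
  have h43 : ∀ u < 11868, (fun u => chkFin tab u) u = true := ext_range (a := 11592) (len := 276) h42 f_42
  have h44 : ∀ u < 12144, (fun u => chkFin tab u) u = true := ext_range (a := 11868) (len := 276) h43 f_43
  have h45 : ∀ u < 12420, (fun u => chkFin tab u) u = true := ext_range (a := 12144) (len := 276) h44 f_44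
  have h46 : ∀ u < 12696, (fun u => chkFin tab u) u = true := ext_range (a := 12420) (len := 276) h45 f_45
  have h47 : ∀ u < 12972, (fun u => chkFin tab u) u = true := ext_range (a := 12696) (len := 276) h46 f_46
  have h48 : ∀ u < 13248, (fun u => chkFin tab u) u = true := ext_range (a := 12972) (len := 276) h47 f_47
  have h49 : ∀ u < 13524, (fun u => chkFin tab u) u = true := ext_range (a := 13248) (len := 276) h48 f_48
  have h50 : ∀ u < 13800, (fun u => chkFin tab u) u = true := ext_range (a := 13524) (len := 276) h49 f_49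
  have h51 : ∀ u < 14076, (fun u => chkFin tab u) u = true := ext_range (a := 13800) (len := 276) h50 f_50
  have h52 : ∀ u < 14080, (fun u => chkFin tab u) u = true := ext_range (a := 14076) (len := 4) h51 f_51
  exact h52

theorem hC : ∀ u < 20011, chkCls tab u = true := by
  have h0 : ∀ u < 0, (fun u => chkCls tab u) u = true := range_zero
  have h1 : ∀ u < 2667, (fun u => chkCls tab u) u = true := ext_range (a := 0) (len := 2667) h0 c_0
  have h2 : ∀ u < 5334, (fun u => chkCls tab u) u = true := ext_range (a := 2667) (len := 2667) h1 c_1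
  have h3 : ∀ u < 8001, (fun u => chkCls tab u) u = true := ext_range (a := 5334) (len := 2667) h2 c_2
  have h4 : ∀ u < 10668, (fun u => chkCls tab u) u = true := ext_range (a := 8001) (len := 2667) h3 c_3
  have h5 : ∀ u < 13335, (fun u => chkCls tab u) u = true := ext_range (a := 10668) (len := 2667) h4 c_4
  have h6 : ∀ u < 16002, (fun u => chkCls tab u) u = true := ext_range (a := 13335) (len := 2667) h5 c_5
  have h7 : ∀ u < 18669, (fun u => chkCls tab u) u = true := ext_range (a := 16002) (len := 2667) h6 c_6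
  have h8 : ∀ u < 20011, (fun u => chkCls tab u) u = true := ext_range (a := 18669) (len := 1342) h7 c_7
  exact h8

theorem hM1 : ∀ u < 14080, chkM1 tab u = true := by
  have h0 : ∀ u < 0, (fun u => chkM1 tab u) u = true := range_zero
  have h1 : ∀ u < 708, (fun u => chkM1 tab u) u = true := ext_range (a := 0) (len := 708) h0 m1_0
  have h2 : ∀ u < 1416, (fun u => chkM1 tab u) u = true := ext_range (a := 708) (len := 708) h1 m1_1
  have h3 : ∀ u < 2124, (fun u => chkM1 tab u) u = true := ext_range (a := 1416) (len := 708) h2 m1_2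
  have h4 : ∀ u < 2832, (fun u => chkM1 tab u) u = true := ext_range (a := 2124) (len := 708) h3 m1_3
  have h5 : ∀ u < 3540, (fun u => chkM1 tab u) u = true := ext_range (a := 2832) (len := 708) h4 m1_4
  have h6 : ∀ u < 4248, (fun u => chkM1 tab u) u = true := ext_range (a := 3540) (len := 708) h5 m1_5
  have h7 : ∀ u < 4956, (fun u => chkM1 tab u) u = true := ext_range (a := 4248) (len := 708) h6 m1_6
  have h8 : ∀ u < 5664, (fun u => chkM1 tab u) u = true := ext_range (a := 4956) (len := 708) h7 m1_7
  have h9 : ∀ u < 6372, (fun u => chkM1 tab u) u = true := ext_range (a := 5664) (len := 708) h8 m1_8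
  have h10 : ∀ u < 7080, (fun u => chkM1 tab u) u = true := ext_range (a := 6372) (len := 708) h9 m1_9
  have h11 : ∀ u < 7788, (fun u => chkM1 tab u) u = true := ext_range (a := 7080) (len := 708) h10 m1_10
  have h12 : ∀ u < 8496, (fun u => chkM1 tab u) u = true := ext_range (a := 7788) (len := 708) h11 m1_11
  have h13 : ∀ u < 9204, (fun u => chkM1 tab u) u = true := ext_range (a := 8496) (len := 708) h12 m1_12
  have h14 : ∀ u < 9912, (fun u => chkM1 tab u) u = true := ext_range (a := 9204) (len := 708) h13 m1_13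
  have h15 : ∀ u < 10620, (fun u => chkM1 tab u) u = true := ext_range (a := 9912) (len := 708) h14 m1_14
  have h16 : ∀ u < 11328, (fun u => chkM1 tab u) u = true := ext_range (a := 10620) (len := 708) h15 m1_15
  have h17 : ∀ u < 12036, (fun u => chkM1 tab u) u = true := ext_range (a := 11328) (len := 708) h16 m1_16
  have h18 : ∀ u < 12744, (fun u => chkM1 tab u) u = true := ext_range (a := 12036) (len := 708) h17 m1_17
  have h19 : ∀ u < 13452, (fun u => chkM1 tab u) u = true := ext_range (a := 12744) (len := 708) h18 m1_18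
  have h20 : ∀ u < 14080, (fun u => chkM1 tab u) u = true := ext_range (a := 13452) (len := 628) h19 m1_19
  exact h20

theorem hMA : ∀ u < 14080, chkAux tab aux u = true := by
  have h0 : ∀ u < 0, (fun u => chkAux tab aux u) u = true := range_zero
  have h1 : ∀ u < 507, (fun u => chkAux tab aux u) u = true := ext_range (a := 0) (len := 507) h0 ma_0
  have h2 : ∀ u < 1014, (fun u => chkAux tab aux u) u = true := ext_range (a := 507) (len := 507) h1 ma_1
  have h3 : ∀ u < 1521, (fun u => chkAux tab aux u) u = true := ext_range (a := 1014) (len := 507) h2 ma_2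
  have h4 : ∀ u < 2028, (fun u => chkAux tab aux u) u = true := ext_range (a := 1521) (len := 507) h3 ma_3
  have h5 : ∀ u < 2535, (fun u => chkAux tab aux u) u = true := ext_range (a := 2028) (len := 507) h4 ma_4
  have h6 : ∀ u < 3042, (fun u => chkAux tab aux u) u = true := ext_range (a := 2535) (len := 507) h5 ma_5
  have h7 : ∀ u < 3549, (fun u => chkAux tab aux u) u = true := ext_range (a := 3042) (len := 507) h6 ma_6
  have h8 : ∀ u < 4056, (fun u => chkAux tab aux u) u = true := ext_range (a := 3549) (len := 507) h7 ma_7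
  have h9 : ∀ u < 4563, (fun u => chkAux tab aux u) u = true := ext_range (a := 4056) (len := 507) h8 ma_8
  have h10 : ∀ u < 5070, (fun u => chkAux tab aux u) u = true := ext_range (a := 4563) (len := 507) h9 ma_9
  have h11 : ∀ u < 5577, (fun u => chkAux tab aux u) u = true := ext_range (a := 5070) (len := 507) h10 ma_10
  have h12 : ∀ u < 6084, (fun u => chkAux tab aux u) u = true := ext_range (a := 5577) (len := 507) h11 ma_11
  have h13 : ∀ u < 6591, (fun u => chkAux tab aux u) u = true := ext_range (a := 6084) (len := 507) h12 ma_12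
  have h14 : ∀ u < 7098, (fun u => chkAux tab aux u) u = true := ext_range (a := 6591) (len := 507) h13 ma_13
  have h15 : ∀ u < 7605, (fun u => chkAux tab aux u) u = true := ext_range (a := 7098) (len := 507) h14 ma_14
  have h16 : ∀ u < 8112, (fun u => chkAux tab aux u) u = true := ext_range (a := 7605) (len := 507) h15 ma_15
  have h17 : ∀ u < 8619, (fun u => chkAux tab aux u) u = true := ext_range (a := 8112) (len := 507) h16 ma_16
  have h18 : ∀ u < 9126, (fun u => chkAux tab aux u) u = true := ext_range (a := 8619) (len := 507) h17 ma_17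
  have h19 : ∀ u < 9633, (fun u => chkAux tab aux u) u = true := ext_range (a := 9126) (len := 507) h18 ma_18
  have h20 : ∀ u < 10140, (fun u => chkAux tab aux u) u = true := ext_range (a := 9633) (len := 507) h19 ma_19
  have h21 : ∀ u < 10647, (fun u => chkAux tab aux u) u = true := ext_range (a := 10140) (len := 507) h20 ma_20
  have h22 : ∀ u < 11154, (fun u => chkAux tab aux u) u = true := ext_range (a := 10647) (len := 507) h21 ma_21
  have h23 : ∀ u < 11661, (fun u => chkAux tab aux u) u = true := ext_range (a := 11154) (len := 507) h22 ma_22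
  have h24 : ∀ u < 12168, (fun u => chkAux tab aux u) u = true := ext_range (a := 11661) (len := 507) h23 ma_23
  have h25 : ∀ u < 12675, (fun u => chkAux tab aux u) u = true := ext_range (a := 12168) (len := 507) h24 ma_24
  have h26 : ∀ u < 13182, (fun u => chkAux tab aux u) u = true := ext_range (a := 12675) (len := 507) h25 ma_25
  have h27 : ∀ u < 13689, (fun u => chkAux tab aux u) u = true := ext_range (a := 13182) (len := 507) h26 ma_26
  have h28 : ∀ u < 14080, (fun u => chkAux tab aux u) u = true := ext_range (a := 13689) (len := 391) h27 ma_27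
  exact h28

theorem hM2A : ∀ u < 14080, chkFix tab mwordsA u = true := by
  have h0 : ∀ u < 0, (fun u => chkFix tab mwordsA u) u = true := range_zero
  have h1 : ∀ u < 71, (fun u => chkFix tab mwordsA u) u = true := ext_range (a := 0) (len := 71) h0 m2_0
  have h2 : ∀ u < 142, (fun u => chkFix tab mwordsA u) u = true := ext_range (a := 71) (len := 71) h1 m2_1
  have h3 : ∀ u < 213, (fun u => chkFix tab mwordsA u) u = true := ext_range (a := 142) (len := 71) h2 m2_2
  have h4 : ∀ u < 284, (fun u => chkFix tab mwordsA u) u = true := ext_range (a := 213) (len := 71) h3 m2_3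
  have h5 : ∀ u < 355, (fun u => chkFix tab mwordsA u) u = true := ext_range (a := 284) (len := 71) h4 m2_4
  have h6 : ∀ u < 426, (fun u => chkFix tab mwordsA u) u = true := ext_range (a := 355) (len := 71) h5 m2_5
  have h7 : ∀ u < 497, (fun u => chkFix tab mwordsA u) u = true := ext_range (a := 426) (len := 71) h6 m2_6
  have h8 : ∀ u < 568, (fun u => chkFix tab mwordsA u) u = true := ext_range (a := 497) (len := 71) h7 m2_7
  have h9 : ∀ u < 639, (fun u => chkFix tab mwordsA u) u = true := ext_range (a := 568) (len := 71) h8 m2_8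
  have h10 : ∀ u < 710, (fun u => chkFix tab mwordsA u) u = true := ext_range (a := 639) (len := 71) h9 m2_9
  have h11 : ∀ u < 781, (fun u => chkFix tab mwordsA u) u = true := ext_range (a := 710) (len := 71) h10 m2_10
  have h12 : ∀ u < 852, (fun u => chkFix tab mwordsA u) u = true := ext_range (a := 781) (len := 71) h11 m2_11
  have h13 : ∀ u < 923, (fun u => chkFix tab mwordsA u) u = true := ext_range (a := 852) (len := 71) h12 m2_12
  have h14 : ∀ u < 994, (fun u => chkFix tab mwordsA u) u = true := ext_range (a := 923) (len := 71) h13 m2_13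
  have h15 : ∀ u < 1065, (fun u => chkFix tab mwordsA u) u = true := ext_range (a := 994) (len := 71) h14 m2_14
  have h16 : ∀ u < 1136, (fun u => chkFix tab mwordsA u) u = true := ext_range (a := 1065) (len := 71) h15 m2_15
  have h17 : ∀ u < 1207, (fun u => chkFix tab mwordsA u) u = true := ext_range (a := 1136) (len := 71) h16 m2_16
  have h18 : ∀ u < 1278, (fun u => chkFix tab mwordsA u) u = true := ext_range (a := 1207) (len := 71) h17 m2_17
  have h19 : ∀ u < 1349, (fun u => chkFix tab mwordsA u) u = true := ext_range (a := 1278) (len := 71) h18 m2_18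
  have h20 : ∀ u < 1420, (fun u => chkFix tab mwordsA u) u = true := ext_range (a := 1349) (len := 71) h19 m2_19
  have h21 : ∀ u < 1491, (fun u => chkFix tab mwordsA u) u = true := ext_range (a := 1420) (len := 71) h20 m2_20
  have h22 : ∀ u < 1562, (fun u => chkFix tab mwordsA u) u = true := ext_range (a := 1491) (len := 71) h21 m2_21
  have h23 : ∀ u < 1633, (fun u => chkFix tab mwordsA u) u = true := ext_range (a := 1562) (len := 71) h22 m2_22
  have h24 : ∀ u < 1704, (fun u => chkFix tab mwordsA u) u = true := ext_range (a := 1633) (len := 71) h23 m2_23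
  have h25 : ∀ u < 1775, (fun u => chkFix tab mwordsA u) u = true := ext_range (a := 1704) (len := 71) h24 m2_24
  have h26 : ∀ u < 1846, (fun u => chkFix tab mwordsA u) u = true := ext_range (a := 1775) (len := 71) h25 m2_25
  have h27 : ∀ u < 1917, (fun u => chkFix tab mwordsA u) u = true := ext_range (a := 1846) (len := 71) h26 m2_26
  have h28 : ∀ u < 1988, (fun u => chkFix tab mwordsA u) u = true := ext_range (a := 1917) (len := 71) h27 m2_27
  have h29 : ∀ u < 2059, (fun u => chkFix tab mwordsA u) u = true := ext_range (a := 1988) (len := 71) h28 m2_28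
  have h30 : ∀ u < 2130, (fun u => chkFix tab mwordsA u) u = true := ext_range (a := 2059) (len := 71) h29 m2_29
  have h31 : ∀ u < 2201, (fun u => chkFix tab mwordsA u) u = true := ext_range (a := 2130) (len := 71) h30 m2_30
  have h32 : ∀ u < 2272, (fun u => chkFix tab mwordsA u) u = true := ext_range (a := 2201) (len := 71) h31 m2_31
  have h33 : ∀ u < 2343, (fun u => chkFix tab mwordsA u) u = true := ext_range (a := 2272) (len := 71) h32 m2_32
  have h34 : ∀ u < 2414, (fun u => chkFix tab mwordsA u) u = true := ext_range (a := 2343) (len := 71) h33 m2_33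
  have h35 : ∀ u < 2485, (fun u => chkFix tab mwordsA u) u = true := ext_range (a := 2414) (len := 71) h34 m2_34
  have h36 : ∀ u < 2556, (fun u => chkFix tab mwordsA u) u = true := ext_range (a := 2485) (len := 71) h35 m2_35
  have h37 : ∀ u < 2627, (fun u => chkFix tab mwordsA u) u = true := ext_range (a := 2556) (len := 71) h36 m2_36
  have h38 : ∀ u < 2698, (fun u => chkFix tab mwordsA u) u = true := ext_range (a := 2627) (len := 71) h37 m2_37
  have h39 : ∀ u < 2769, (fun u => chkFix tab mwordsA u) u = true := ext_range (a := 2698) (len := 71) h38 m2_38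
  have h40 : ∀ u < 2840, (fun u => chkFix tab mwordsA u) u = true := ext_range (a := 2769) (len := 71) h39 m2_39
  have h41 : ∀ u < 2911, (fun u => chkFix tab mwordsA u) u = true := ext_range (a := 2840) (len := 71) h40 m2_40
  have h42 : ∀ u < 2982, (fun u => chkFix tab mwordsA u) u = true := ext_range (a := 2911) (len := 71) h41 m2_41
  have h43 : ∀ u < 3053, (fun u => chkFix tab mwordsA u) u = true := ext_range (a := 2982) (len := 71) h42 m2_42
  have h44 : ∀ u < 3124, (fun u => chkFix tab mwordsA u) u = true := ext_range (a := 3053) (len := 71) h43 m2_43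
  have h45 : ∀ u < 3195, (fun u => chkFix tab mwordsA u) u = true := ext_range (a := 3124) (len := 71) h44 m2_44
  have h46 : ∀ u < 3266, (fun u => chkFix tab mwordsA u) u = true := ext_range (a := 3195) (len := 71) h45 m2_45
  have h47 : ∀ u < 3337, (fun u => chkFix tab mwordsA u) u = true := ext_range (a := 3266) (len := 71) h46 m2_46
  have h48 : ∀ u < 3408, (fun u => chkFix tab mwordsA u) u = true := ext_range (a := 3337) (len := 71) h47 m2_47
  have h49 : ∀ u < 3479, (fun u => chkFix tab mwordsA u) u = true := ext_range (a := 3408) (len := 71) h48 m2_48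
  have h50 : ∀ u < 3550, (fun u => chkFix tab mwordsA u) u = true := ext_range (a := 3479) (len := 71) h49 m2_49
  have h51 : ∀ u < 3621, (fun u => chkFix tab mwordsA u) u = true := ext_range (a := 3550) (len := 71) h50 m2_50
  have h52 : ∀ u < 3692, (fun u => chkFix tab mwordsA u) u = true := ext_range (a := 3621) (len := 71) h51 m2_51
  have h53 : ∀ u < 3763, (fun u => chkFix tab mwordsA u) u = true := ext_range (a := 3692) (len := 71) h52 m2_52
  have h54 : ∀ u < 3834, (fun u => chkFix tab mwordsA u) u = true := ext_range (a := 3763) (len := 71) h53 m2_53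
  have h55 : ∀ u < 3905, (fun u => chkFix tab mwordsA u) u = true := ext_range (a := 3834) (len := 71) h54 m2_54
  have h56 : ∀ u < 3976, (fun u => chkFix tab mwordsA u) u = true := ext_range (a := 3905) (len := 71) h55 m2_55
  have h57 : ∀ u < 4047, (fun u => chkFix tab mwordsA u) u = true := ext_range (a := 3976) (len := 71) h56 m2_56
  have h58 : ∀ u < 4118, (fun u => chkFix tab mwordsA u) u = true := ext_range (a := 4047) (len := 71) h57 m2_57
  have h59 : ∀ u < 4189, (fun u => chkFix tab mwordsA u) u = true := ext_range (a := 4118) (len := 71) h58 m2_58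
  have h60 : ∀ u < 4260, (fun u => chkFix tab mwordsA u) u = true := ext_range (a := 4189) (len := 71) h59 m2_59
  have h61 : ∀ u < 4331, (fun u => chkFix tab mwordsA u) u = true := ext_range (a := 4260) (len := 71) h60 m2_60
  have h62 : ∀ u < 4402, (fun u => chkFix tab mwordsA u) u = true := ext_range (a := 4331) (len := 71) h61 m2_61
  have h63 : ∀ u < 4473, (fun u => chkFix tab mwordsA u) u = true := ext_range (a := 4402) (len := 71) h62 m2_62
  have h64 : ∀ u < 4544, (fun u => chkFix tab mwordsA u) u = true := ext_range (a := 4473) (len := 71) h63 m2_63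
  have h65 : ∀ u < 4615, (fun u => chkFix tab mwordsA u) u = true := ext_range (a := 4544) (len := 71) h64 m2_64
  have h66 : ∀ u < 4686, (fun u => chkFix tab mwordsA u) u = true := ext_range (a := 4615) (len := 71) h65 m2_65
  have h67 : ∀ u < 4757, (fun u => chkFix tab mwordsA u) u = true := ext_range (a := 4686) (len := 71) h66 m2_66
  have h68 : ∀ u < 4828, (fun u => chkFix tab mwordsA u) u = true := ext_range (a := 4757) (len := 71) h67 m2_67
  have h69 : ∀ u < 4899, (fun u => chkFix tab mwordsA u) u = true := ext_range (a := 4828) (len := 71) h68 m2_68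
  have h70 : ∀ u < 4970, (fun u => chkFix tab mwordsA u) u = true := ext_range (a := 4899) (len := 71) h69 m2_69
  have h71 : ∀ u < 5041, (fun u => chkFix tab mwordsA u) u = true := ext_range (a := 4970) (len := 71) h70 m2_70
  have h72 : ∀ u < 5112, (fun u => chkFix tab mwordsA u) u = true := ext_range (a := 5041) (len := 71) h71 m2_71
  have h73 : ∀ u < 5183, (fun u => chkFix tab mwordsA u) u = true := ext_range (a := 5112) (len := 71) h72 m2_72
  have h74 : ∀ u < 5254, (fun u => chkFix tab mwordsA u) u = true := ext_range (a := 5183) (len := 71) h73 m2_73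
  have h75 : ∀ u < 5325, (fun u => chkFix tab mwordsA u) u = true := ext_range (a := 5254) (len := 71) h74 m2_74
  have h76 : ∀ u < 5396, (fun u => chkFix tab mwordsA u) u = true := ext_range (a := 5325) (len := 71) h75 m2_75
  have h77 : ∀ u < 5467, (fun u => chkFix tab mwordsA u) u = true := ext_range (a := 5396) (len := 71) h76 m2_76
  have h78 : ∀ u < 5538, (fun u => chkFix tab mwordsA u) u = true := ext_range (a := 5467) (len := 71) h77 m2_77
  have h79 : ∀ u < 5609, (fun u => chkFix tab mwordsA u) u = true := ext_range (a := 5538) (len := 71) h78 m2_78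
  have h80 : ∀ u < 5680, (fun u => chkFix tab mwordsA u) u = true := ext_range (a := 5609) (len := 71) h79 m2_79
  have h81 : ∀ u < 5751, (fun u => chkFix tab mwordsA u) u = true := ext_range (a := 5680) (len := 71) h80 m2_80
  have h82 : ∀ u < 5822, (fun u => chkFix tab mwordsA u) u = true := ext_range (a := 5751) (len := 71) h81 m2_81
  have h83 : ∀ u < 5893, (fun u => chkFix tab mwordsA u) u = true := ext_range (a := 5822) (len := 71) h82 m2_82
  have h84 : ∀ u < 5964, (fun u => chkFix tab mwordsA u) u = true := ext_range (a := 5893) (len := 71) h83 m2_83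
  have h85 : ∀ u < 6035, (fun u => chkFix tab mwordsA u) u = true := ext_range (a := 5964) (len := 71) h84 m2_84
  have h86 : ∀ u < 6106, (fun u => chkFix tab mwordsA u) u = true := ext_range (a := 6035) (len := 71) h85 m2_85
  have h87 : ∀ u < 6177, (fun u => chkFix tab mwordsA u) u = true := ext_range (a := 6106) (len := 71) h86 m2_86
  have h88 : ∀ u < 6248, (fun u => chkFix tab mwordsA u) u = true := ext_range (a := 6177) (len := 71) h87 m2_87
  have h89 : ∀ u < 6319, (fun u => chkFix tab mwordsA u) u = true := ext_range (a := 6248) (len := 71) h88 m2_88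
  have h90 : ∀ u < 6390, (fun u => chkFix tab mwordsA u) u = true := ext_range (a := 6319) (len := 71) h89 m2_89
  have h91 : ∀ u < 6461, (fun u => chkFix tab mwordsA u) u = true := ext_range (a := 6390) (len := 71) h90 m2_90
  have h92 : ∀ u < 6532, (fun u => chkFix tab mwordsA u) u = true := ext_range (a := 6461) (len := 71) h91 m2_91
  have h93 : ∀ u < 6603, (fun u => chkFix tab mwordsA u) u = true := ext_range (a := 6532) (len := 71) h92 m2_92
  have h94 : ∀ u < 6674, (fun u => chkFix tab mwordsA u) u = true := ext_range (a := 6603) (len := 71) h93 m2_93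
  have h95 : ∀ u < 6745, (fun u => chkFix tab mwordsA u) u = true := ext_range (a := 6674) (len := 71) h94 m2_94
  have h96 : ∀ u < 6816, (fun u => chkFix tab mwordsA u) u = true := ext_range (a := 6745) (len := 71) h95 m2_95
  have h97 : ∀ u < 6887, (fun u => chkFix tab mwordsA u) u = true := ext_range (a := 6816) (len := 71) h96 m2_96
  have h98 : ∀ u < 6958, (fun u => chkFix tab mwordsA u) u = true := ext_range (a := 6887) (len := 71) h97 m2_97
  have h99 : ∀ u < 7029, (fun u => chkFix tab mwordsA u) u = true := ext_range (a := 6958) (len := 71) h98 m2_98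
  have h100 : ∀ u < 7100, (fun u => chkFix tab mwordsA u) u = true := ext_range (a := 7029) (len := 71) h99 m2_99
  have h101 : ∀ u < 7171, (fun u => chkFix tab mwordsA u) u = true := ext_range (a := 7100) (len := 71) h100 m2_100
  have h102 : ∀ u < 7242, (fun u => chkFix tab mwordsA u) u = true := ext_range (a := 7171) (len := 71) h101 m2_101
  have h103 : ∀ u < 7313, (fun u => chkFix tab mwordsA u) u = true := ext_range (a := 7242) (len := 71) h102 m2_102
  have h104 : ∀ u < 7384, (fun u => chkFix tab mwordsA u) u = true := ext_range (a := 7313) (len := 71) h103 m2_103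
  have h105 : ∀ u < 7455, (fun u => chkFix tab mwordsA u) u = true := ext_range (a := 7384) (len := 71) h104 m2_104
  have h106 : ∀ u < 7526, (fun u => chkFix tab mwordsA u) u = true := ext_range (a := 7455) (len := 71) h105 m2_105
  have h107 : ∀ u < 7597, (fun u => chkFix tab mwordsA u) u = true := ext_range (a := 7526) (len := 71) h106 m2_106
  have h108 : ∀ u < 7668, (fun u => chkFix tab mwordsA u) u = true := ext_range (a := 7597) (len := 71) h107 m2_107
  have h109 : ∀ u < 7739, (fun u => chkFix tab mwordsA u) u = true := ext_range (a := 7668) (len := 71) h108 m2_108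
  have h110 : ∀ u < 7810, (fun u => chkFix tab mwordsA u) u = true := ext_range (a := 7739) (len := 71) h109 m2_109
  have h111 : ∀ u < 7881, (fun u => chkFix tab mwordsA u) u = true := ext_range (a := 7810) (len := 71) h110 m2_110
  have h112 : ∀ u < 7952, (fun u => chkFix tab mwordsA u) u = true := ext_range (a := 7881) (len := 71) h111 m2_111
  have h113 : ∀ u < 8023, (fun u => chkFix tab mwordsA u) u = true := ext_range (a := 7952) (len := 71) h112 m2_112
  have h114 : ∀ u < 8094, (fun u => chkFix tab mwordsA u) u = true := ext_range (a := 8023) (len := 71) h113 m2_113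
  have h115 : ∀ u < 8165, (fun u => chkFix tab mwordsA u) u = true := ext_range (a := 8094) (len := 71) h114 m2_114
  have h116 : ∀ u < 8236, (fun u => chkFix tab mwordsA u) u = true := ext_range (a := 8165) (len := 71) h115 m2_115
  have h117 : ∀ u < 8307, (fun u => chkFix tab mwordsA u) u = true := ext_range (a := 8236) (len := 71) h116 m2_116
  have h118 : ∀ u < 8378, (fun u => chkFix tab mwordsA u) u = true := ext_range (a := 8307) (len := 71) h117 m2_117
  have h119 : ∀ u < 8449, (fun u => chkFix tab mwordsA u) u = true := ext_range (a := 8378) (len := 71) h118 m2_118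
  have h120 : ∀ u < 8520, (fun u => chkFix tab mwordsA u) u = true := ext_range (a := 8449) (len := 71) h119 m2_119
  have h121 : ∀ u < 8591, (fun u => chkFix tab mwordsA u) u = true := ext_range (a := 8520) (len := 71) h120 m2_120
  have h122 : ∀ u < 8662, (fun u => chkFix tab mwordsA u) u = true := ext_range (a := 8591) (len := 71) h121 m2_121
  have h123 : ∀ u < 8733, (fun u => chkFix tab mwordsA u) u = true := ext_range (a := 8662) (len := 71) h122 m2_122
  have h124 : ∀ u < 8804, (fun u => chkFix tab mwordsA u) u = true := ext_range (a := 8733) (len := 71) h123 m2_123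
  have h125 : ∀ u < 8875, (fun u => chkFix tab mwordsA u) u = true := ext_range (a := 8804) (len := 71) h124 m2_124
  have h126 : ∀ u < 8946, (fun u => chkFix tab mwordsA u) u = true := ext_range (a := 8875) (len := 71) h125 m2_125
  have h127 : ∀ u < 9017, (fun u => chkFix tab mwordsA u) u = true := ext_range (a := 8946) (len := 71) h126 m2_126
  have h128 : ∀ u < 9088, (fun u => chkFix tab mwordsA u) u = true := ext_range (a := 9017) (len := 71) h127 m2_127
  have h129 : ∀ u < 9159, (fun u => chkFix tab mwordsA u) u = true := ext_range (a := 9088) (len := 71) h128 m2_128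
  have h130 : ∀ u < 9230, (fun u => chkFix tab mwordsA u) u = true := ext_range (a := 9159) (len := 71) h129 m2_129
  have h131 : ∀ u < 9301, (fun u => chkFix tab mwordsA u) u = true := ext_range (a := 9230) (len := 71) h130 m2_130
  have h132 : ∀ u < 9372, (fun u => chkFix tab mwordsA u) u = true := ext_range (a := 9301) (len := 71) h131 m2_131
  have h133 : ∀ u < 9443, (fun u => chkFix tab mwordsA u) u = true := ext_range (a := 9372) (len := 71) h132 m2_132
  have h134 : ∀ u < 9514, (fun u => chkFix tab mwordsA u) u = true := ext_range (a := 9443) (len := 71) h133 m2_133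
  have h135 : ∀ u < 9585, (fun u => chkFix tab mwordsA u) u = true := ext_range (a := 9514) (len := 71) h134 m2_134
  have h136 : ∀ u < 9656, (fun u => chkFix tab mwordsA u) u = true := ext_range (a := 9585) (len := 71) h135 m2_135
  have h137 : ∀ u < 9727, (fun u => chkFix tab mwordsA u) u = true := ext_range (a := 9656) (len := 71) h136 m2_136
  have h138 : ∀ u < 9798, (fun u => chkFix tab mwordsA u) u = true := ext_range (a := 9727) (len := 71) h137 m2_137
  have h139 : ∀ u < 9869, (fun u => chkFix tab mwordsA u) u = true := ext_range (a := 9798) (len := 71) h138 m2_138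
  have h140 : ∀ u < 9940, (fun u => chkFix tab mwordsA u) u = true := ext_range (a := 9869) (len := 71) h139 m2_139
  have h141 : ∀ u < 10011, (fun u => chkFix tab mwordsA u) u = true := ext_range (a := 9940) (len := 71) h140 m2_140
  have h142 : ∀ u < 10082, (fun u => chkFix tab mwordsA u) u = true := ext_range (a := 10011) (len := 71) h141 m2_141
  have h143 : ∀ u < 10153, (fun u => chkFix tab mwordsA u) u = true := ext_range (a := 10082) (len := 71) h142 m2_142
  have h144 : ∀ u < 10224, (fun u => chkFix tab mwordsA u) u = true := ext_range (a := 10153) (len := 71) h143 m2_143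
  have h145 : ∀ u < 10295, (fun u => chkFix tab mwordsA u) u = true := ext_range (a := 10224) (len := 71) h144 m2_144
  have h146 : ∀ u < 10366, (fun u => chkFix tab mwordsA u) u = true := ext_range (a := 10295) (len := 71) h145 m2_145
  have h147 : ∀ u < 10437, (fun u => chkFix tab mwordsA u) u = true := ext_range (a := 10366) (len := 71) h146 m2_146
  have h148 : ∀ u < 10508, (fun u => chkFix tab mwordsA u) u = true := ext_range (a := 10437) (len := 71) h147 m2_147
  have h149 : ∀ u < 10579, (fun u => chkFix tab mwordsA u) u = true := ext_range (a := 10508) (len := 71) h148 m2_148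
  have h150 : ∀ u < 10650, (fun u => chkFix tab mwordsA u) u = true := ext_range (a := 10579) (len := 71) h149 m2_149
  have h151 : ∀ u < 10721, (fun u => chkFix tab mwordsA u) u = true := ext_range (a := 10650) (len := 71) h150 m2_150
  have h152 : ∀ u < 10792, (fun u => chkFix tab mwordsA u) u = true := ext_range (a := 10721) (len := 71) h151 m2_151
  have h153 : ∀ u < 10863, (fun u => chkFix tab mwordsA u) u = true := ext_range (a := 10792) (len := 71) h152 m2_152
  have h154 : ∀ u < 10934, (fun u => chkFix tab mwordsA u) u = true := ext_range (a := 10863) (len := 71) h153 m2_153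
  have h155 : ∀ u < 11005, (fun u => chkFix tab mwordsA u) u = true := ext_range (a := 10934) (len := 71) h154 m2_154
  have h156 : ∀ u < 11076, (fun u => chkFix tab mwordsA u) u = true := ext_range (a := 11005) (len := 71) h155 m2_155
  have h157 : ∀ u < 11147, (fun u => chkFix tab mwordsA u) u = true := ext_range (a := 11076) (len := 71) h156 m2_156
  have h158 : ∀ u < 11218, (fun u => chkFix tab mwordsA u) u = true := ext_range (a := 11147) (len := 71) h157 m2_157
  have h159 : ∀ u < 11289, (fun u => chkFix tab mwordsA u) u = true := ext_range (a := 11218) (len := 71) h158 m2_158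
  have h160 : ∀ u < 11360, (fun u => chkFix tab mwordsA u) u = true := ext_range (a := 11289) (len := 71) h159 m2_159
  have h161 : ∀ u < 11431, (fun u => chkFix tab mwordsA u) u = true := ext_range (a := 11360) (len := 71) h160 m2_160
  have h162 : ∀ u < 11502, (fun u => chkFix tab mwordsA u) u = true := ext_range (a := 11431) (len := 71) h161 m2_161
  have h163 : ∀ u < 11573, (fun u => chkFix tab mwordsA u) u = true := ext_range (a := 11502) (len := 71) h162 m2_162
  have h164 : ∀ u < 11644, (fun u => chkFix tab mwordsA u) u = true := ext_range (a := 11573) (len := 71) h163 m2_163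
  have h165 : ∀ u < 11715, (fun u => chkFix tab mwordsA u) u = true := ext_range (a := 11644) (len := 71) h164 m2_164
  have h166 : ∀ u < 11786, (fun u => chkFix tab mwordsA u) u = true := ext_range (a := 11715) (len := 71) h165 m2_165
  have h167 : ∀ u < 11857, (fun u => chkFix tab mwordsA u) u = true := ext_range (a := 11786) (len := 71) h166 m2_166
  have h168 : ∀ u < 11928, (fun u => chkFix tab mwordsA u) u = true := ext_range (a := 11857) (len := 71) h167 m2_167
  have h169 : ∀ u < 11999, (fun u => chkFix tab mwordsA u) u = true := ext_range (a := 11928) (len := 71) h168 m2_168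
  have h170 : ∀ u < 12070, (fun u => chkFix tab mwordsA u) u = true := ext_range (a := 11999) (len := 71) h169 m2_169
  have h171 : ∀ u < 12141, (fun u => chkFix tab mwordsA u) u = true := ext_range (a := 12070) (len := 71) h170 m2_170
  have h172 : ∀ u < 12212, (fun u => chkFix tab mwordsA u) u = true := ext_range (a := 12141) (len := 71) h171 m2_171
  have h173 : ∀ u < 12283, (fun u => chkFix tab mwordsA u) u = true := ext_range (a := 12212) (len := 71) h172 m2_172
  have h174 : ∀ u < 12354, (fun u => chkFix tab mwordsA u) u = true := ext_range (a := 12283) (len := 71) h173 m2_173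
  have h175 : ∀ u < 12425, (fun u => chkFix tab mwordsA u) u = true := ext_range (a := 12354) (len := 71) h174 m2_174
  have h176 : ∀ u < 12496, (fun u => chkFix tab mwordsA u) u = true := ext_range (a := 12425) (len := 71) h175 m2_175
  have h177 : ∀ u < 12567, (fun u => chkFix tab mwordsA u) u = true := ext_range (a := 12496) (len := 71) h176 m2_176
  have h178 : ∀ u < 12638, (fun u => chkFix tab mwordsA u) u = true := ext_range (a := 12567) (len := 71) h177 m2_177
  have h179 : ∀ u < 12709, (fun u => chkFix tab mwordsA u) u = true := ext_range (a := 12638) (len := 71) h178 m2_178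
  have h180 : ∀ u < 12780, (fun u => chkFix tab mwordsA u) u = true := ext_range (a := 12709) (len := 71) h179 m2_179
  have h181 : ∀ u < 12851, (fun u => chkFix tab mwordsA u) u = true := ext_range (a := 12780) (len := 71) h180 m2_180
  have h182 : ∀ u < 12922, (fun u => chkFix tab mwordsA u) u = true := ext_range (a := 12851) (len := 71) h181 m2_181
  have h183 : ∀ u < 12993, (fun u => chkFix tab mwordsA u) u = true := ext_range (a := 12922) (len := 71) h182 m2_182
  have h184 : ∀ u < 13064, (fun u => chkFix tab mwordsA u) u = true := ext_range (a := 12993) (len := 71) h183 m2_183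
  have h185 : ∀ u < 13135, (fun u => chkFix tab mwordsA u) u = true := ext_range (a := 13064) (len := 71) h184 m2_184
  have h186 : ∀ u < 13206, (fun u => chkFix tab mwordsA u) u = true := ext_range (a := 13135) (len := 71) h185 m2_185
  have h187 : ∀ u < 13277, (fun u => chkFix tab mwordsA u) u = true := ext_range (a := 13206) (len := 71) h186 m2_186
  have h188 : ∀ u < 13348, (fun u => chkFix tab mwordsA u) u = true := ext_range (a := 13277) (len := 71) h187 m2_187
  have h189 : ∀ u < 13419, (fun u => chkFix tab mwordsA u) u = true := ext_range (a := 13348) (len := 71) h188 m2_188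
  have h190 : ∀ u < 13490, (fun u => chkFix tab mwordsA u) u = true := ext_range (a := 13419) (len := 71) h189 m2_189
  have h191 : ∀ u < 13561, (fun u => chkFix tab mwordsA u) u = true := ext_range (a := 13490) (len := 71) h190 m2_190
  have h192 : ∀ u < 13632, (fun u => chkFix tab mwordsA u) u = true := ext_range (a := 13561) (len := 71) h191 m2_191
  have h193 : ∀ u < 13703, (fun u => chkFix tab mwordsA u) u = true := ext_range (a := 13632) (len := 71) h192 m2_192
  have h194 : ∀ u < 13774, (fun u => chkFix tab mwordsA u) u = true := ext_range (a := 13703) (len := 71) h193 m2_193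
  have h195 : ∀ u < 13845, (fun u => chkFix tab mwordsA u) u = true := ext_range (a := 13774) (len := 71) h194 m2_194
  have h196 : ∀ u < 13916, (fun u => chkFix tab mwordsA u) u = true := ext_range (a := 13845) (len := 71) h195 m2_195
  have h197 : ∀ u < 13987, (fun u => chkFix tab mwordsA u) u = true := ext_range (a := 13916) (len := 71) h196 m2_196
  have h198 : ∀ u < 14058, (fun u => chkFix tab mwordsA u) u = true := ext_range (a := 13987) (len := 71) h197 m2_197
  have h199 : ∀ u < 14080, (fun u => chkFix tab mwordsA u) u = true := ext_range (a := 14058) (len := 22) h198 m2_198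
  exact h199

theorem hO1 : ∀ u < 14080, chkO1 tab orb u = true := by
  have h0 : ∀ u < 0, (fun u => chkO1 tab orb u) u = true := range_zero
  have h1 : ∀ u < 385, (fun u => chkO1 tab orb u) u = true := ext_range (a := 0) (len := 385) h0 o1_0
  have h2 : ∀ u < 770, (fun u => chkO1 tab orb u) u = true := ext_range (a := 385) (len := 385) h1 o1_1
  have h3 : ∀ u < 1155, (fun u => chkO1 tab orb u) u = true := ext_range (a := 770) (len := 385) h2 o1_2
  have h4 : ∀ u < 1540, (fun u => chkO1 tab orb u) u = true := ext_range (a := 1155) (len := 385) h3 o1_3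
  have h5 : ∀ u < 1925, (fun u => chkO1 tab orb u) u = true := ext_range (a := 1540) (len := 385) h4 o1_4
  have h6 : ∀ u < 2310, (fun u => chkO1 tab orb u) u = true := ext_range (a := 1925) (len := 385) h5 o1_5
  have h7 : ∀ u < 2695, (fun u => chkO1 tab orb u) u = true := ext_range (a := 2310) (len := 385) h6 o1_6
  have h8 : ∀ u < 3080, (fun u => chkO1 tab orb u) u = true := ext_range (a := 2695) (len := 385) h7 o1_7
  have h9 : ∀ u < 3465, (fun u => chkO1 tab orb u) u = true := ext_range (a := 3080) (len := 385) h8 o1_8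
  have h10 : ∀ u < 3850, (fun u => chkO1 tab orb u) u = true := ext_range (a := 3465) (len := 385) h9 o1_9
  have h11 : ∀ u < 4235, (fun u => chkO1 tab orb u) u = true := ext_range (a := 3850) (len := 385) h10 o1_10
  have h12 : ∀ u < 4620, (fun u => chkO1 tab orb u) u = true := ext_range (a := 4235) (len := 385) h11 o1_11
  have h13 : ∀ u < 5005, (fun u => chkO1 tab orb u) u = true := ext_range (a := 4620) (len := 385) h12 o1_12
  have h14 : ∀ u < 5390, (fun u => chkO1 tab orb u) u = true := ext_range (a := 5005) (len := 385) h13 o1_13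
  have h15 : ∀ u < 5775, (fun u => chkO1 tab orb u) u = true := ext_range (a := 5390) (len := 385) h14 o1_14
  have h16 : ∀ u < 6160, (fun u => chkO1 tab orb u) u = true := ext_range (a := 5775) (len := 385) h15 o1_15
  have h17 : ∀ u < 6545, (fun u => chkO1 tab orb u) u = true := ext_range (a := 6160) (len := 385) h16 o1_16
  have h18 : ∀ u < 6930, (fun u => chkO1 tab orb u) u = true := ext_range (a := 6545) (len := 385) h17 o1_17
  have h19 : ∀ u < 7315, (fun u => chkO1 tab orb u) u = true := ext_range (a := 6930) (len := 385) h18 o1_18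
  have h20 : ∀ u < 7700, (fun u => chkO1 tab orb u) u = true := ext_range (a := 7315) (len := 385) h19 o1_19
  have h21 : ∀ u < 8085, (fun u => chkO1 tab orb u) u = true := ext_range (a := 7700) (len := 385) h20 o1_20
  have h22 : ∀ u < 8470, (fun u => chkO1 tab orb u) u = true := ext_range (a := 8085) (len := 385) h21 o1_21
  have h23 : ∀ u < 8855, (fun u => chkO1 tab orb u) u = true := ext_range (a := 8470) (len := 385) h22 o1_22
  have h24 : ∀ u < 9240, (fun u => chkO1 tab orb u) u = true := ext_range (a := 8855) (len := 385) h23 o1_23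
  have h25 : ∀ u < 9625, (fun u => chkO1 tab orb u) u = true := ext_range (a := 9240) (len := 385) h24 o1_24
  have h26 : ∀ u < 10010, (fun u => chkO1 tab orb u) u = true := ext_range (a := 9625) (len := 385) h25 o1_25
  have h27 : ∀ u < 10395, (fun u => chkO1 tab orb u) u = true := ext_range (a := 10010) (len := 385) h26 o1_26
  have h28 : ∀ u < 10780, (fun u => chkO1 tab orb u) u = true := ext_range (a := 10395) (len := 385) h27 o1_27
  have h29 : ∀ u < 11165, (fun u => chkO1 tab orb u) u = true := ext_range (a := 10780) (len := 385) h28 o1_28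
  have h30 : ∀ u < 11550, (fun u => chkO1 tab orb u) u = true := ext_range (a := 11165) (len := 385) h29 o1_29
  have h31 : ∀ u < 11935, (fun u => chkO1 tab orb u) u = true := ext_range (a := 11550) (len := 385) h30 o1_30
  have h32 : ∀ u < 12320, (fun u => chkO1 tab orb u) u = true := ext_range (a := 11935) (len := 385) h31 o1_31
  have h33 : ∀ u < 12705, (fun u => chkO1 tab orb u) u = true := ext_range (a := 12320) (len := 385) h32 o1_32
  have h34 : ∀ u < 13090, (fun u => chkO1 tab orb u) u = true := ext_range (a := 12705) (len := 385) h33 o1_33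
  have h35 : ∀ u < 13475, (fun u => chkO1 tab orb u) u = true := ext_range (a := 13090) (len := 385) h34 o1_34
  have h36 : ∀ u < 13860, (fun u => chkO1 tab orb u) u = true := ext_range (a := 13475) (len := 385) h35 o1_35
  have h37 : ∀ u < 14080, (fun u => chkO1 tab orb u) u = true := ext_range (a := 13860) (len := 220) h36 o1_36
  exact h37

theorem hO2 : ∀ u < 14080, chkO2 tab orb u = true := by
  have h0 : ∀ u < 0, (fun u => chkO2 tab orb u) u = true := range_zero
  have h1 : ∀ u < 1334, (fun u => chkO2 tab orb u) u = true := ext_range (a := 0) (len := 1334) h0 o2_0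
  have h2 : ∀ u < 2668, (fun u => chkO2 tab orb u) u = true := ext_range (a := 1334) (len := 1334) h1 o2_1
  have h3 : ∀ u < 4002, (fun u => chkO2 tab orb u) u = true := ext_range (a := 2668) (len := 1334) h2 o2_2
  have h4 : ∀ u < 5336, (fun u => chkO2 tab orb u) u = true := ext_range (a := 4002) (len := 1334) h3 o2_3
  have h5 : ∀ u < 6670, (fun u => chkO2 tab orb u) u = true := ext_range (a := 5336) (len := 1334) h4 o2_4
  have h6 : ∀ u < 8004, (fun u => chkO2 tab orb u) u = true := ext_range (a := 6670) (len := 1334) h5 o2_5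
  have h7 : ∀ u < 9338, (fun u => chkO2 tab orb u) u = true := ext_range (a := 8004) (len := 1334) h6 o2_6
  have h8 : ∀ u < 10672, (fun u => chkO2 tab orb u) u = true := ext_range (a := 9338) (len := 1334) h7 o2_7
  have h9 : ∀ u < 12006, (fun u => chkO2 tab orb u) u = true := ext_range (a := 10672) (len := 1334) h8 o2_8
  have h10 : ∀ u < 13340, (fun u => chkO2 tab orb u) u = true := ext_range (a := 12006) (len := 1334) h9 o2_9
  have h11 : ∀ u < 14080, (fun u => chkO2 tab orb u) u = true := ext_range (a := 13340) (len := 740) h10 o2_10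
  exact h11

theorem hOL : ∀ u < 14080, Nat.blt (orb.lab u) 3 = true := by
  have h0 : ∀ u < 0, (fun u => Nat.blt (orb.lab u) 3) u = true := range_zero
  have h1 : ∀ u < 8000, (fun u => Nat.blt (orb.lab u) 3) u = true := ext_range (a := 0) (len := 8000) h0 ol_0
  have h2 : ∀ u < 14080, (fun u => Nat.blt (orb.lab u) 3) u = true := ext_range (a := 8000) (len := 6080) h1 ol_1
  exact h2

theorem hSlp : ∀ u < 14080, chkSlp tab slp u = true := by
  have h0 : ∀ u < 0, (fun u => chkSlp tab slp u) u = true := range_zero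
  have h1 : ∀ u < 405, (fun u => chkSlp tab slp u) u = true := ext_range (a := 0) (len := 405) h0 sl_0
  have h2 : ∀ u < 810, (fun u => chkSlp tab slp u) u = true := ext_range (a := 405) (len := 405) h1 sl_1
  have h3 : ∀ u < 1215, (fun u => chkSlp tab slp u) u = true := ext_range (a := 810) (len := 405) h2 sl_2
  have h4 : ∀ u < 1620, (fun u => chkSlp tab slp u) u = true := ext_range (a := 1215) (len := 405) h3 sl_3
  have h5 : ∀ u < 2025, (fun u => chkSlp tab slp u) u = true := ext_range (a := 1620) (len := 405) h4 sl_4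
  have h6 : ∀ u < 2430, (fun u => chkSlp tab slp u) u = true := ext_range (a := 2025) (len := 405) h5 sl_5
  have h7 : ∀ u < 2835, (fun u => chkSlp tab slp u) u = true := ext_range (a := 2430) (len := 405) h6 sl_6
  have h8 : ∀ u < 3240, (fun u => chkSlp tab slp u) u = true := ext_range (a := 2835) (len := 405) h7 sl_7
  have h9 : ∀ u < 3645, (fun u => chkSlp tab slp u) u = true := ext_range (a := 3240) (len := 405) h8 sl_8
  have h10 : ∀ u < 4050, (fun u => chkSlp tab slp u) u = true := ext_range (a := 3645) (len := 405) h9 sl_9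
  have h11 : ∀ u < 4455, (fun u => chkSlp tab slp u) u = true := ext_range (a := 4050) (len := 405) h10 sl_10
  have h12 : ∀ u < 4860, (fun u => chkSlp tab slp u) u = true := ext_range (a := 4455) (len := 405) h11 sl_11
  have h13 : ∀ u < 5265, (fun u => chkSlp tab slp u) u = true := ext_range (a := 4860) (len := 405) h12 sl_12
  have h14 : ∀ u < 5670, (fun u => chkSlp tab slp u) u = true := ext_range (a := 5265) (len := 405) h13 sl_13
  have h15 : ∀ u < 6075, (fun u => chkSlp tab slp u) u = true := ext_range (a := 5670) (len := 405) h14 sl_14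
  have h16 : ∀ u < 6480, (fun u => chkSlp tab slp u) u = true := ext_range (a := 6075) (len := 405) h15 sl_15
  have h17 : ∀ u < 6885, (fun u => chkSlp tab slp u) u = true := ext_range (a := 6480) (len := 405) h16 sl_16
  have h18 : ∀ u < 7290, (fun u => chkSlp tab slp u) u = true := ext_range (a := 6885) (len := 405) h17 sl_17
  have h19 : ∀ u < 7695, (fun u => chkSlp tab slp u) u = true := ext_range (a := 7290) (len := 405) h18 sl_18
  have h20 : ∀ u < 8100, (fun u => chkSlp tab slp u) u = true := ext_range (a := 7695) (len := 405) h19 sl_19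
  have h21 : ∀ u < 8505, (fun u => chkSlp tab slp u) u = true := ext_range (a := 8100) (len := 405) h20 sl_20
  have h22 : ∀ u < 8910, (fun u => chkSlp tab slp u) u = true := ext_range (a := 8505) (len := 405) h21 sl_21
  have h23 : ∀ u < 9315, (fun u => chkSlp tab slp u) u = true := ext_range (a := 8910) (len := 405) h22 sl_22
  have h24 : ∀ u < 9720, (fun u => chkSlp tab slp u) u = true := ext_range (a := 9315) (len := 405) h23 sl_23
  have h25 : ∀ u < 10125, (fun u => chkSlp tab slp u) u = true := ext_range (a := 9720) (len := 405) h24 sl_24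
  have h26 : ∀ u < 10530, (fun u => chkSlp tab slp u) u = true := ext_range (a := 10125) (len := 405) h25 sl_25
  have h27 : ∀ u < 10935, (fun u => chkSlp tab slp u) u = true := ext_range (a := 10530) (len := 405) h26 sl_26
  have h28 : ∀ u < 11340, (fun u => chkSlp tab slp u) u = true := ext_range (a := 10935) (len := 405) h27 sl_27
  have h29 : ∀ u < 11745, (fun u => chkSlp tab slp u) u = true := ext_range (a := 11340) (len := 405) h28 sl_28
  have h30 : ∀ u < 12150, (fun u => chkSlp tab slp u) u = true := ext_range (a := 11745) (len := 405) h29 sl_29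
  have h31 : ∀ u < 12555, (fun u => chkSlp tab slp u) u = true := ext_range (a := 12150) (len := 405) h30 sl_30
  have h32 : ∀ u < 12960, (fun u => chkSlp tab slp u) u = true := ext_range (a := 12555) (len := 405) h31 sl_31
  have h33 : ∀ u < 13365, (fun u => chkSlp tab slp u) u = true := ext_range (a := 12960) (len := 405) h32 sl_32
  have h34 : ∀ u < 13770, (fun u => chkSlp tab slp u) u = true := ext_range (a := 13365) (len := 405) h33 sl_33
  have h35 : ∀ u < 14080, (fun u => chkSlp tab slp u) u = true := ext_range (a := 13770) (len := 310) h34 sl_34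
  exact h35

theorem hT0 : ∀ u < 14080, chkTree tab (lidx 0) (lpar 0) (lgi 0) 0 [0, 1, 2, 3, 4, 5, 6, 7, 8] u = true := by
  have h0 : ∀ u < 0, (fun u => chkTree tab (lidx 0) (lpar 0) (lgi 0) 0 [0, 1, 2, 3, 4, 5, 6, 7, 8] u) u = true := range_zero
  have h1 : ∀ u < 1000, (fun u => chkTree tab (lidx 0) (lpar 0) (lgi 0) 0 [0, 1, 2, 3, 4, 5, 6, 7, 8] u) u = true := ext_range (a := 0) (len := 1000) h0 tr0x_0
  have h2 : ∀ u < 2000, (fun u => chkTree tab (lidx 0) (lpar 0) (lgi 0) 0 [0, 1, 2, 3, 4, 5, 6, 7, 8] u) u = true := ext_range (a := 1000) (len := 1000) h1 tr0x_1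
  have h3 : ∀ u < 3000, (fun u => chkTree tab (lidx 0) (lpar 0) (lgi 0) 0 [0, 1, 2, 3, 4, 5, 6, 7, 8] u) u = true := ext_range (a := 2000) (len := 1000) h2 tr0x_2
  have h4 : ∀ u < 4000, (fun u => chkTree tab (lidx 0) (lpar 0) (lgi 0) 0 [0, 1, 2, 3, 4, 5, 6, 7, 8] u) u = true := ext_range (a := 3000) (len := 1000) h3 tr0x_3
  have h5 : ∀ u < 5000, (fun u => chkTree tab (lidx 0) (lpar 0) (lgi 0) 0 [0, 1, 2, 3, 4, 5, 6, 7, 8] u) u = true := ext_range (a := 4000) (len := 1000) h4 tr0x_4
  have h6 : ∀ u < 6000, (fun u => chkTree tab (lidx 0) (lpar 0) (lgi 0) 0 [0, 1, 2, 3, 4, 5, 6, 7, 8] u) u = true := ext_range (a := 5000) (len := 1000) h5 tr0x_5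
  have h7 : ∀ u < 7000, (fun u => chkTree tab (lidx 0) (lpar 0) (lgi 0) 0 [0, 1, 2, 3, 4, 5, 6, 7, 8] u) u = true := ext_range (a := 6000) (len := 1000) h6 tr0x_6
  have h8 : ∀ u < 8000, (fun u => chkTree tab (lidx 0) (lpar 0) (lgi 0) 0 [0, 1, 2, 3, 4, 5, 6, 7, 8] u) u = true := ext_range (a := 7000) (len := 1000) h7 tr0x_7
  have h9 : ∀ u < 9000, (fun u => chkTree tab (lidx 0) (lpar 0) (lgi 0) 0 [0, 1, 2, 3, 4, 5, 6, 7, 8] u) u = true := ext_range (a := 8000) (len := 1000) h8 tr0x_8
  have h10 : ∀ u < 10000, (fun u => chkTree tab (lidx 0) (lpar 0) (lgi 0) 0 [0, 1, 2, 3, 4, 5, 6, 7, 8] u) u = true := ext_range (a := 9000) (len := 1000) h9 tr0x_9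
  have h11 : ∀ u < 11000, (fun u => chkTree tab (lidx 0) (lpar 0) (lgi 0) 0 [0, 1, 2, 3, 4, 5, 6, 7, 8] u) u = true := ext_range (a := 10000) (len := 1000) h10 tr0x_10
  have h12 : ∀ u < 12000, (fun u => chkTree tab (lidx 0) (lpar 0) (lgi 0) 0 [0, 1, 2, 3, 4, 5, 6, 7, 8] u) u = true := ext_range (a := 11000) (len := 1000) h11 tr0x_11
  have h13 : ∀ u < 13000, (fun u => chkTree tab (lidx 0) (lpar 0) (lgi 0) 0 [0, 1, 2, 3, 4, 5, 6, 7, 8] u) u = true := ext_range (a := 12000) (len := 1000) h12 tr0x_12
  have h14 : ∀ u < 14000, (fun u => chkTree tab (lidx 0) (lpar 0) (lgi 0) 0 [0, 1, 2, 3, 4, 5, 6, 7, 8] u) u = true := ext_range (a := 13000) (len := 1000) h13 tr0x_13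
  have h15 : ∀ u < 14080, (fun u => chkTree tab (lidx 0) (lpar 0) (lgi 0) 0 [0, 1, 2, 3, 4, 5, 6, 7, 8] u) u = true := ext_range (a := 14000) (len := 80) h14 tr0x_14
  exact h15

theorem hT1 : ∀ u < 14080, chkTree tab (lidx 1) (lpar 1) (lgi 1) 1 [1, 2, 3, 4, 5, 6, 7, 8] u = true := by
  have h0 : ∀ u < 0, (fun u => chkTree tab (lidx 1) (lpar 1) (lgi 1) 1 [1, 2, 3, 4, 5, 6, 7, 8] u) u = true := range_zero
  have h1 : ∀ u < 1000, (fun u => chkTree tab (lidx 1) (lpar 1) (lgi 1) 1 [1, 2, 3, 4, 5, 6, 7, 8] u) u = true := ext_range (a := 0) (len := 1000) h0 tr1x_0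
  have h2 : ∀ u < 2000, (fun u => chkTree tab (lidx 1) (lpar 1) (lgi 1) 1 [1, 2, 3, 4, 5, 6, 7, 8] u) u = true := ext_range (a := 1000) (len := 1000) h1 tr1x_1
  have h3 : ∀ u < 3000, (fun u => chkTree tab (lidx 1) (lpar 1) (lgi 1) 1 [1, 2, 3, 4, 5, 6, 7, 8] u) u = true := ext_range (a := 2000) (len := 1000) h2 tr1x_2
  have h4 : ∀ u < 4000, (fun u => chkTree tab (lidx 1) (lpar 1) (lgi 1) 1 [1, 2, 3, 4, 5, 6, 7, 8] u) u = true := ext_range (a := 3000) (len := 1000) h3 tr1x_3
  have h5 : ∀ u < 5000, (fun u => chkTree tab (lidx 1) (lpar 1) (lgi 1) 1 [1, 2, 3, 4, 5, 6, 7, 8] u) u = true := ext_range (a := 4000) (len := 1000) h4 tr1x_4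
  have h6 : ∀ u < 6000, (fun u => chkTree tab (lidx 1) (lpar 1) (lgi 1) 1 [1, 2, 3, 4, 5, 6, 7, 8] u) u = true := ext_range (a := 5000) (len := 1000) h5 tr1x_5
  have h7 : ∀ u < 7000, (fun u => chkTree tab (lidx 1) (lpar 1) (lgi 1) 1 [1, 2, 3, 4, 5, 6, 7, 8] u) u = true := ext_range (a := 6000) (len := 1000) h6 tr1x_6
  have h8 : ∀ u < 8000, (fun u => chkTree tab (lidx 1) (lpar 1) (lgi 1) 1 [1, 2, 3, 4, 5, 6, 7, 8] u) u = true := ext_range (a := 7000) (len := 1000) h7 tr1x_7
  have h9 : ∀ u < 9000, (fun u => chkTree tab (lidx 1) (lpar 1) (lgi 1) 1 [1, 2, 3, 4, 5, 6, 7, 8] u) u = true := ext_range (a := 8000) (len := 1000) h8 tr1x_8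
  have h10 : ∀ u < 10000, (fun u => chkTree tab (lidx 1) (lpar 1) (lgi 1) 1 [1, 2, 3, 4, 5, 6, 7, 8] u) u = true := ext_range (a := 9000) (len := 1000) h9 tr1x_9
  have h11 : ∀ u < 11000, (fun u => chkTree tab (lidx 1) (lpar 1) (lgi 1) 1 [1, 2, 3, 4, 5, 6, 7, 8] u) u = true := ext_range (a := 10000) (len := 1000) h10 tr1x_10
  have h12 : ∀ u < 12000, (fun u => chkTree tab (lidx 1) (lpar 1) (lgi 1) 1 [1, 2, 3, 4, 5, 6, 7, 8] u) u = true := ext_range (a := 11000) (len := 1000) h11 tr1x_11
  have h13 : ∀ u < 13000, (fun u => chkTree tab (lidx 1) (lpar 1) (lgi 1) 1 [1, 2, 3, 4, 5, 6, 7, 8] u) u = true := ext_range (a := 12000) (len := 1000) h12 tr1x_12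
  have h14 : ∀ u < 14000, (fun u => chkTree tab (lidx 1) (lpar 1) (lgi 1) 1 [1, 2, 3, 4, 5, 6, 7, 8] u) u = true := ext_range (a := 13000) (len := 1000) h13 tr1x_13
  have h15 : ∀ u < 14080, (fun u => chkTree tab (lidx 1) (lpar 1) (lgi 1) 1 [1, 2, 3, 4, 5, 6, 7, 8] u) u = true := ext_range (a := 14000) (len := 80) h14 tr1x_14
  exact h15

theorem hT2 : ∀ u < 14080, chkTree tab (lidx 2) (lpar 2) (lgi 2) 2 [2, 3, 4, 5, 6, 7, 8] u = true := by
  have h0 : ∀ u < 0, (fun u => chkTree tab (lidx 2) (lpar 2) (lgi 2) 2 [2, 3, 4, 5, 6, 7, 8] u) u = true := range_zero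
  have h1 : ∀ u < 1000, (fun u => chkTree tab (lidx 2) (lpar 2) (lgi 2) 2 [2, 3, 4, 5, 6, 7, 8] u) u = true := ext_range (a := 0) (len := 1000) h0 tr2x_0
  have h2 : ∀ u < 2000, (fun u => chkTree tab (lidx 2) (lpar 2) (lgi 2) 2 [2, 3, 4, 5, 6, 7, 8] u) u = true := ext_range (a := 1000) (len := 1000) h1 tr2x_1
  have h3 : ∀ u < 3000, (fun u => chkTree tab (lidx 2) (lpar 2) (lgi 2) 2 [2, 3, 4, 5, 6, 7, 8] u) u = true := ext_range (a := 2000) (len := 1000) h2 tr2x_2
  have h4 : ∀ u < 4000, (fun u => chkTree tab (lidx 2) (lpar 2) (lgi 2) 2 [2, 3, 4, 5, 6, 7, 8] u) u = true := ext_range (a := 3000) (len := 1000) h3 tr2x_3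
  have h5 : ∀ u < 5000, (fun u => chkTree tab (lidx 2) (lpar 2) (lgi 2) 2 [2, 3, 4, 5, 6, 7, 8] u) u = true := ext_range (a := 4000) (len := 1000) h4 tr2x_4
  have h6 : ∀ u < 6000, (fun u => chkTree tab (lidx 2) (lpar 2) (lgi 2) 2 [2, 3, 4, 5, 6, 7, 8] u) u = true := ext_range (a := 5000) (len := 1000) h5 tr2x_5
  have h7 : ∀ u < 7000, (fun u => chkTree tab (lidx 2) (lpar 2) (lgi 2) 2 [2, 3, 4, 5, 6, 7, 8] u) u = true := ext_range (a := 6000) (len := 1000) h6 tr2x_6
  have h8 : ∀ u < 8000, (fun u => chkTree tab (lidx 2) (lpar 2) (lgi 2) 2 [2, 3, 4, 5, 6, 7, 8] u) u = true := ext_range (a := 7000) (len := 1000) h7 tr2x_7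
  have h9 : ∀ u < 9000, (fun u => chkTree tab (lidx 2) (lpar 2) (lgi 2) 2 [2, 3, 4, 5, 6, 7, 8] u) u = true := ext_range (a := 8000) (len := 1000) h8 tr2x_8
  have h10 : ∀ u < 10000, (fun u => chkTree tab (lidx 2) (lpar 2) (lgi 2) 2 [2, 3, 4, 5, 6, 7, 8] u) u = true := ext_range (a := 9000) (len := 1000) h9 tr2x_9
  have h11 : ∀ u < 11000, (fun u => chkTree tab (lidx 2) (lpar 2) (lgi 2) 2 [2, 3, 4, 5, 6, 7, 8] u) u = true := ext_range (a := 10000) (len := 1000) h10 tr2x_10
  have h12 : ∀ u < 12000, (fun u => chkTree tab (lidx 2) (lpar 2) (lgi 2) 2 [2, 3, 4, 5, 6, 7, 8] u) u = true := ext_range (a := 11000) (len := 1000) h11 tr2x_11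
  have h13 : ∀ u < 13000, (fun u => chkTree tab (lidx 2) (lpar 2) (lgi 2) 2 [2, 3, 4, 5, 6, 7, 8] u) u = true := ext_range (a := 12000) (len := 1000) h12 tr2x_12
  have h14 : ∀ u < 14000, (fun u => chkTree tab (lidx 2) (lpar 2) (lgi 2) 2 [2, 3, 4, 5, 6, 7, 8] u) u = true := ext_range (a := 13000) (len := 1000) h13 tr2x_13
  have h15 : ∀ u < 14080, (fun u => chkTree tab (lidx 2) (lpar 2) (lgi 2) 2 [2, 3, 4, 5, 6, 7, 8] u) u = true := ext_range (a := 14000) (len := 80) h14 tr2x_14
  exact h15

theorem hT3 : ∀ u < 14080, chkTree tab (lidx 3) (lpar 3) (lgi 3) 3 [3, 4, 5, 6, 7, 8] u = true := by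
  have h0 : ∀ u < 0, (fun u => chkTree tab (lidx 3) (lpar 3) (lgi 3) 3 [3, 4, 5, 6, 7, 8] u) u = true := range_zero
  have h1 : ∀ u < 1000, (fun u => chkTree tab (lidx 3) (lpar 3) (lgi 3) 3 [3, 4, 5, 6, 7, 8] u) u = true := ext_range (a := 0) (len := 1000) h0 tr3x_0
  have h2 : ∀ u < 2000, (fun u => chkTree tab (lidx 3) (lpar 3) (lgi 3) 3 [3, 4, 5, 6, 7, 8] u) u = true := ext_range (a := 1000) (len := 1000) h1 tr3x_1
  have h3 : ∀ u < 3000, (fun u => chkTree tab (lidx 3) (lpar 3) (lgi 3) 3 [3, 4, 5, 6, 7, 8] u) u = true := ext_range (a := 2000) (len := 1000) h2 tr3x_2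
  have h4 : ∀ u < 4000, (fun u => chkTree tab (lidx 3) (lpar 3) (lgi 3) 3 [3, 4, 5, 6, 7, 8] u) u = true := ext_range (a := 3000) (len := 1000) h3 tr3x_3
  have h5 : ∀ u < 5000, (fun u => chkTree tab (lidx 3) (lpar 3) (lgi 3) 3 [3, 4, 5, 6, 7, 8] u) u = true := ext_range (a := 4000) (len := 1000) h4 tr3x_4
  have h6 : ∀ u < 6000, (fun u => chkTree tab (lidx 3) (lpar 3) (lgi 3) 3 [3, 4, 5, 6, 7, 8] u) u = true := ext_range (a := 5000) (len := 1000) h5 tr3x_5
  have h7 : ∀ u < 7000, (fun u => chkTree tab (lidx 3) (lpar 3) (lgi 3) 3 [3, 4, 5, 6, 7, 8] u) u = true := ext_range (a := 6000) (len := 1000) h6 tr3x_6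
  have h8 : ∀ u < 8000, (fun u => chkTree tab (lidx 3) (lpar 3) (lgi 3) 3 [3, 4, 5, 6, 7, 8] u) u = true := ext_range (a := 7000) (len := 1000) h7 tr3x_7
  have h9 : ∀ u < 9000, (fun u => chkTree tab (lidx 3) (lpar 3) (lgi 3) 3 [3, 4, 5, 6, 7, 8] u) u = true := ext_range (a := 8000) (len := 1000) h8 tr3x_8
  have h10 : ∀ u < 10000, (fun u => chkTree tab (lidx 3) (lpar 3) (lgi 3) 3 [3, 4, 5, 6, 7, 8] u) u = true := ext_range (a := 9000) (len := 1000) h9 tr3x_9
  have h11 : ∀ u < 11000, (fun u => chkTree tab (lidx 3) (lpar 3) (lgi 3) 3 [3, 4, 5, 6, 7, 8] u) u = true := ext_range (a := 10000) (len := 1000) h10 tr3x_10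
  have h12 : ∀ u < 12000, (fun u => chkTree tab (lidx 3) (lpar 3) (lgi 3) 3 [3, 4, 5, 6, 7, 8] u) u = true := ext_range (a := 11000) (len := 1000) h11 tr3x_11
  have h13 : ∀ u < 13000, (fun u => chkTree tab (lidx 3) (lpar 3) (lgi 3) 3 [3, 4, 5, 6, 7, 8] u) u = true := ext_range (a := 12000) (len := 1000) h12 tr3x_12
  have h14 : ∀ u < 14000, (fun u => chkTree tab (lidx 3) (lpar 3) (lgi 3) 3 [3, 4, 5, 6, 7, 8] u) u = true := ext_range (a := 13000) (len := 1000) h13 tr3x_13
  have h15 : ∀ u < 14080, (fun u => chkTree tab (lidx 3) (lpar 3) (lgi 3) 3 [3, 4, 5, 6, 7, 8] u) u = true := ext_range (a := 14000) (len := 80) h14 tr3x_14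
  exact h15

theorem hT4 : ∀ u < 14080, chkTree tab (lidx 4) (lpar 4) (lgi 4) 4 [4, 5, 6, 7, 8] u = true := by
  have h0 : ∀ u < 0, (fun u => chkTree tab (lidx 4) (lpar 4) (lgi 4) 4 [4, 5, 6, 7, 8] u) u = true := range_zero
  have h1 : ∀ u < 1000, (fun u => chkTree tab (lidx 4) (lpar 4) (lgi 4) 4 [4, 5, 6, 7, 8] u) u = true := ext_range (a := 0) (len := 1000) h0 tr4x_0
  have h2 : ∀ u < 2000, (fun u => chkTree tab (lidx 4) (lpar 4) (lgi 4) 4 [4, 5, 6, 7, 8] u) u = true := ext_range (a := 1000) (len := 1000) h1 tr4x_1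
  have h3 : ∀ u < 3000, (fun u => chkTree tab (lidx 4) (lpar 4) (lgi 4) 4 [4, 5, 6, 7, 8] u) u = true := ext_range (a := 2000) (len := 1000) h2 tr4x_2
  have h4 : ∀ u < 4000, (fun u => chkTree tab (lidx 4) (lpar 4) (lgi 4) 4 [4, 5, 6, 7, 8] u) u = true := ext_range (a := 3000) (len := 1000) h3 tr4x_3
  have h5 : ∀ u < 5000, (fun u => chkTree tab (lidx 4) (lpar 4) (lgi 4) 4 [4, 5, 6, 7, 8] u) u = true := ext_range (a := 4000) (len := 1000) h4 tr4x_4
  have h6 : ∀ u < 6000, (fun u => chkTree tab (lidx 4) (lpar 4) (lgi 4) 4 [4, 5, 6, 7, 8] u) u = true := ext_range (a := 5000) (len := 1000) h5 tr4x_5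
  have h7 : ∀ u < 7000, (fun u => chkTree tab (lidx 4) (lpar 4) (lgi 4) 4 [4, 5, 6, 7, 8] u) u = true := ext_range (a := 6000) (len := 1000) h6 tr4x_6
  have h8 : ∀ u < 8000, (fun u => chkTree tab (lidx 4) (lpar 4) (lgi 4) 4 [4, 5, 6, 7, 8] u) u = true := ext_range (a := 7000) (len := 1000) h7 tr4x_7
  have h9 : ∀ u < 9000, (fun u => chkTree tab (lidx 4) (lpar 4) (lgi 4) 4 [4, 5, 6, 7, 8] u) u = true := ext_range (a := 8000) (len := 1000) h8 tr4x_8
  have h10 : ∀ u < 10000, (fun u => chkTree tab (lidx 4) (lpar 4) (lgi 4) 4 [4, 5, 6, 7, 8] u) u = true := ext_range (a := 9000) (len := 1000) h9 tr4x_9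
  have h11 : ∀ u < 11000, (fun u => chkTree tab (lidx 4) (lpar 4) (lgi 4) 4 [4, 5, 6, 7, 8] u) u = true := ext_range (a := 10000) (len := 1000) h10 tr4x_10
  have h12 : ∀ u < 12000, (fun u => chkTree tab (lidx 4) (lpar 4) (lgi 4) 4 [4, 5, 6, 7, 8] u) u = true := ext_range (a := 11000) (len := 1000) h11 tr4x_11
  have h13 : ∀ u < 13000, (fun u => chkTree tab (lidx 4) (lpar 4) (lgi 4) 4 [4, 5, 6, 7, 8] u) u = true := ext_range (a := 12000) (len := 1000) h12 tr4x_12
  have h14 : ∀ u < 14000, (fun u => chkTree tab (lidx 4) (lpar 4) (lgi 4) 4 [4, 5, 6, 7, 8] u) u = true := ext_range (a := 13000) (len := 1000) h13 tr4x_13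
  have h15 : ∀ u < 14080, (fun u => chkTree tab (lidx 4) (lpar 4) (lgi 4) 4 [4, 5, 6, 7, 8] u) u = true := ext_range (a := 14000) (len := 80) h14 tr4x_14
  exact h15

theorem hT5 : ∀ u < 14080, chkTree tab (lidx 5) (lpar 5) (lgi 5) 5 [5, 6] u = true := by
  have h0 : ∀ u < 0, (fun u => chkTree tab (lidx 5) (lpar 5) (lgi 5) 5 [5, 6] u) u = true := range_zero
  have h1 : ∀ u < 1000, (fun u => chkTree tab (lidx 5) (lpar 5) (lgi 5) 5 [5, 6] u) u = true := ext_range (a := 0) (len := 1000) h0 tr5x_0
  have h2 : ∀ u < 2000, (fun u => chkTree tab (lidx 5) (lpar 5) (lgi 5) 5 [5, 6] u) u = true := ext_range (a := 1000) (len := 1000) h1 tr5x_1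
  have h3 : ∀ u < 3000, (fun u => chkTree tab (lidx 5) (lpar 5) (lgi 5) 5 [5, 6] u) u = true := ext_range (a := 2000) (len := 1000) h2 tr5x_2
  have h4 : ∀ u < 4000, (fun u => chkTree tab (lidx 5) (lpar 5) (lgi 5) 5 [5, 6] u) u = true := ext_range (a := 3000) (len := 1000) h3 tr5x_3
  have h5 : ∀ u < 5000, (fun u => chkTree tab (lidx 5) (lpar 5) (lgi 5) 5 [5, 6] u) u = true := ext_range (a := 4000) (len := 1000) h4 tr5x_4
  have h6 : ∀ u < 6000, (fun u => chkTree tab (lidx 5) (lpar 5) (lgi 5) 5 [5, 6] u) u = true := ext_range (a := 5000) (len := 1000) h5 tr5x_5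
  have h7 : ∀ u < 7000, (fun u => chkTree tab (lidx 5) (lpar 5) (lgi 5) 5 [5, 6] u) u = true := ext_range (a := 6000) (len := 1000) h6 tr5x_6
  have h8 : ∀ u < 8000, (fun u => chkTree tab (lidx 5) (lpar 5) (lgi 5) 5 [5, 6] u) u = true := ext_range (a := 7000) (len := 1000) h7 tr5x_7
  have h9 : ∀ u < 9000, (fun u => chkTree tab (lidx 5) (lpar 5) (lgi 5) 5 [5, 6] u) u = true := ext_range (a := 8000) (len := 1000) h8 tr5x_8
  have h10 : ∀ u < 10000, (fun u => chkTree tab (lidx 5) (lpar 5) (lgi 5) 5 [5, 6] u) u = true := ext_range (a := 9000) (len := 1000) h9 tr5x_9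
  have h11 : ∀ u < 11000, (fun u => chkTree tab (lidx 5) (lpar 5) (lgi 5) 5 [5, 6] u) u = true := ext_range (a := 10000) (len := 1000) h10 tr5x_10
  have h12 : ∀ u < 12000, (fun u => chkTree tab (lidx 5) (lpar 5) (lgi 5) 5 [5, 6] u) u = true := ext_range (a := 11000) (len := 1000) h11 tr5x_11
  have h13 : ∀ u < 13000, (fun u => chkTree tab (lidx 5) (lpar 5) (lgi 5) 5 [5, 6] u) u = true := ext_range (a := 12000) (len := 1000) h12 tr5x_12
  have h14 : ∀ u < 14000, (fun u => chkTree tab (lidx 5) (lpar 5) (lgi 5) 5 [5, 6] u) u = true := ext_range (a := 13000) (len := 1000) h13 tr5x_13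
  have h15 : ∀ u < 14080, (fun u => chkTree tab (lidx 5) (lpar 5) (lgi 5) 5 [5, 6] u) u = true := ext_range (a := 14000) (len := 80) h14 tr5x_14
  exact h15

theorem hT6 : ∀ u < 14080, chkTree tab (lidx 6) (lpar 6) (lgi 6) 6 [8] u = true := by
  have h0 : ∀ u < 0, (fun u => chkTree tab (lidx 6) (lpar 6) (lgi 6) 6 [8] u) u = true := range_zero
  have h1 : ∀ u < 1000, (fun u => chkTree tab (lidx 6) (lpar 6) (lgi 6) 6 [8] u) u = true := ext_range (a := 0) (len := 1000) h0 tr6x_0
  have h2 : ∀ u < 2000, (fun u => chkTree tab (lidx 6) (lpar 6) (lgi 6) 6 [8] u) u = true := ext_range (a := 1000) (len := 1000) h1 tr6x_1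
  have h3 : ∀ u < 3000, (fun u => chkTree tab (lidx 6) (lpar 6) (lgi 6) 6 [8] u) u = true := ext_range (a := 2000) (len := 1000) h2 tr6x_2
  have h4 : ∀ u < 4000, (fun u => chkTree tab (lidx 6) (lpar 6) (lgi 6) 6 [8] u) u = true := ext_range (a := 3000) (len := 1000) h3 tr6x_3
  have h5 : ∀ u < 5000, (fun u => chkTree tab (lidx 6) (lpar 6) (lgi 6) 6 [8] u) u = true := ext_range (a := 4000) (len := 1000) h4 tr6x_4
  have h6 : ∀ u < 6000, (fun u => chkTree tab (lidx 6) (lpar 6) (lgi 6) 6 [8] u) u = true := ext_range (a := 5000) (len := 1000) h5 tr6x_5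
  have h7 : ∀ u < 7000, (fun u => chkTree tab (lidx 6) (lpar 6) (lgi 6) 6 [8] u) u = true := ext_range (a := 6000) (len := 1000) h6 tr6x_6
  have h8 : ∀ u < 8000, (fun u => chkTree tab (lidx 6) (lpar 6) (lgi 6) 6 [8] u) u = true := ext_range (a := 7000) (len := 1000) h7 tr6x_7
  have h9 : ∀ u < 9000, (fun u => chkTree tab (lidx 6) (lpar 6) (lgi 6) 6 [8] u) u = true := ext_range (a := 8000) (len := 1000) h8 tr6x_8
  have h10 : ∀ u < 10000, (fun u => chkTree tab (lidx 6) (lpar 6) (lgi 6) 6 [8] u) u = true := ext_range (a := 9000) (len := 1000) h9 tr6x_9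
  have h11 : ∀ u < 11000, (fun u => chkTree tab (lidx 6) (lpar 6) (lgi 6) 6 [8] u) u = true := ext_range (a := 10000) (len := 1000) h10 tr6x_10
  have h12 : ∀ u < 12000, (fun u => chkTree tab (lidx 6) (lpar 6) (lgi 6) 6 [8] u) u = true := ext_range (a := 11000) (len := 1000) h11 tr6x_11
  have h13 : ∀ u < 13000, (fun u => chkTree tab (lidx 6) (lpar 6) (lgi 6) 6 [8] u) u = true := ext_range (a := 12000) (len := 1000) h12 tr6x_12
  have h14 : ∀ u < 14000, (fun u => chkTree tab (lidx 6) (lpar 6) (lgi 6) 6 [8] u) u = true := ext_range (a := 13000) (len := 1000) h13 tr6x_13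
  have h15 : ∀ u < 14080, (fun u => chkTree tab (lidx 6) (lpar 6) (lgi 6) 6 [8] u) u = true := ext_range (a := 14000) (len := 80) h14 tr6x_14
  exact h15

theorem hT7 : ∀ u < 14080, chkTree tab (lidx 7) (lpar 7) (lgi 7) 7 [6] u = true := by
  have h0 : ∀ u < 0, (fun u => chkTree tab (lidx 7) (lpar 7) (lgi 7) 7 [6] u) u = true := range_zero
  have h1 : ∀ u < 1000, (fun u => chkTree tab (lidx 7) (lpar 7) (lgi 7) 7 [6] u) u = true := ext_range (a := 0) (len := 1000) h0 tr7x_0
  have h2 : ∀ u < 2000, (fun u => chkTree tab (lidx 7) (lpar 7) (lgi 7) 7 [6] u) u = true := ext_range (a := 1000) (len := 1000) h1 tr7x_1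
  have h3 : ∀ u < 3000, (fun u => chkTree tab (lidx 7) (lpar 7) (lgi 7) 7 [6] u) u = true := ext_range (a := 2000) (len := 1000) h2 tr7x_2
  have h4 : ∀ u < 4000, (fun u => chkTree tab (lidx 7) (lpar 7) (lgi 7) 7 [6] u) u = true := ext_range (a := 3000) (len := 1000) h3 tr7x_3
  have h5 : ∀ u < 5000, (fun u => chkTree tab (lidx 7) (lpar 7) (lgi 7) 7 [6] u) u = true := ext_range (a := 4000) (len := 1000) h4 tr7x_4
  have h6 : ∀ u < 6000, (fun u => chkTree tab (lidx 7) (lpar 7) (lgi 7) 7 [6] u) u = true := ext_range (a := 5000) (len := 1000) h5 tr7x_5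
  have h7 : ∀ u < 7000, (fun u => chkTree tab (lidx 7) (lpar 7) (lgi 7) 7 [6] u) u = true := ext_range (a := 6000) (len := 1000) h6 tr7x_6
  have h8 : ∀ u < 8000, (fun u => chkTree tab (lidx 7) (lpar 7) (lgi 7) 7 [6] u) u = true := ext_range (a := 7000) (len := 1000) h7 tr7x_7
  have h9 : ∀ u < 9000, (fun u => chkTree tab (lidx 7) (lpar 7) (lgi 7) 7 [6] u) u = true := ext_range (a := 8000) (len := 1000) h8 tr7x_8
  have h10 : ∀ u < 10000, (fun u => chkTree tab (lidx 7) (lpar 7) (lgi 7) 7 [6] u) u = true := ext_range (a := 9000) (len := 1000) h9 tr7x_9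
  have h11 : ∀ u < 11000, (fun u => chkTree tab (lidx 7) (lpar 7) (lgi 7) 7 [6] u) u = true := ext_range (a := 10000) (len := 1000) h10 tr7x_10
  have h12 : ∀ u < 12000, (fun u => chkTree tab (lidx 7) (lpar 7) (lgi 7) 7 [6] u) u = true := ext_range (a := 11000) (len := 1000) h11 tr7x_11
  have h13 : ∀ u < 13000, (fun u => chkTree tab (lidx 7) (lpar 7) (lgi 7) 7 [6] u) u = true := ext_range (a := 12000) (len := 1000) h12 tr7x_12
  have h14 : ∀ u < 14000, (fun u => chkTree tab (lidx 7) (lpar 7) (lgi 7) 7 [6] u) u = true := ext_range (a := 13000) (len := 1000) h13 tr7x_13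
  have h15 : ∀ u < 14080, (fun u => chkTree tab (lidx 7) (lpar 7) (lgi 7) 7 [6] u) u = true := ext_range (a := 14000) (len := 80) h14 tr7x_14
  exact h15

theorem hX : ∀ u < 14080, Nat.beq ((runT tab xw)^[11] u) u = true := by
  have h0 : ∀ u < 0, (fun u => Nat.beq ((runT tab xw)^[11] u) u) u = true := range_zero
  have h1 : ∀ u < 47, (fun u => Nat.beq ((runT tab xw)^[11] u) u) u = true := ext_range (a := 0) (len := 47) h0 x_0
  have h2 : ∀ u < 94, (fun u => Nat.beq ((runT tab xw)^[11] u) u) u = true := ext_range (a := 47) (len := 47) h1 x_1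
  have h3 : ∀ u < 141, (fun u => Nat.beq ((runT tab xw)^[11] u) u) u = true := ext_range (a := 94) (len := 47) h2 x_2
  have h4 : ∀ u < 188, (fun u => Nat.beq ((runT tab xw)^[11] u) u) u = true := ext_range (a := 141) (len := 47) h3 x_3
  have h5 : ∀ u < 235, (fun u => Nat.beq ((runT tab xw)^[11] u) u) u = true := ext_range (a := 188) (len := 47) h4 x_4
  have h6 : ∀ u < 282, (fun u => Nat.beq ((runT tab xw)^[11] u) u) u = true := ext_range (a := 235) (len := 47) h5 x_5
  have h7 : ∀ u < 329, (fun u => Nat.beq ((runT tab xw)^[11] u) u) u = true := ext_range (a := 282) (len := 47) h6 x_6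
  have h8 : ∀ u < 376, (fun u => Nat.beq ((runT tab xw)^[11] u) u) u = true := ext_range (a := 329) (len := 47) h7 x_7
  have h9 : ∀ u < 423, (fun u => Nat.beq ((runT tab xw)^[11] u) u) u = true := ext_range (a := 376) (len := 47) h8 x_8
  have h10 : ∀ u < 470, (fun u => Nat.beq ((runT tab xw)^[11] u) u) u = true := ext_range (a := 423) (len := 47) h9 x_9
  have h11 : ∀ u < 517, (fun u => Nat.beq ((runT tab xw)^[11] u) u) u = true := ext_range (a := 470) (len := 47) h10 x_10
  have h12 : ∀ u < 564, (fun u => Nat.beq ((runT tab xw)^[11] u) u) u = true := ext_range (a := 517) (len := 47) h11 x_11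
  have h13 : ∀ u < 611, (fun u => Nat.beq ((runT tab xw)^[11] u) u) u = true := ext_range (a := 564) (len := 47) h12 x_12
  have h14 : ∀ u < 658, (fun u => Nat.beq ((runT tab xw)^[11] u) u) u = true := ext_range (a := 611) (len := 47) h13 x_13
  have h15 : ∀ u < 705, (fun u => Nat.beq ((runT tab xw)^[11] u) u) u = true := ext_range (a := 658) (len := 47) h14 x_14
  have h16 : ∀ u < 752, (fun u => Nat.beq ((runT tab xw)^[11] u) u) u = true := ext_range (a := 705) (len := 47) h15 x_15
  have h17 : ∀ u < 799, (fun u => Nat.beq ((runT tab xw)^[11] u) u) u = true := ext_range (a := 752) (len := 47) h16 x_16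
  have h18 : ∀ u < 846, (fun u => Nat.beq ((runT tab xw)^[11] u) u) u = true := ext_range (a := 799) (len := 47) h17 x_17
  have h19 : ∀ u < 893, (fun u => Nat.beq ((runT tab xw)^[11] u) u) u = true := ext_range (a := 846) (len := 47) h18 x_18
  have h20 : ∀ u < 940, (fun u => Nat.beq ((runT tab xw)^[11] u) u) u = true := ext_range (a := 893) (len := 47) h19 x_19
  have h21 : ∀ u < 987, (fun u => Nat.beq ((runT tab xw)^[11] u) u) u = true := ext_range (a := 940) (len := 47) h20 x_20
  have h22 : ∀ u < 1034, (fun u => Nat.beq ((runT tab xw)^[11] u) u) u = true := ext_range (a := 987) (len := 47) h21 x_21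
  have h23 : ∀ u < 1081, (fun u => Nat.beq ((runT tab xw)^[11] u) u) u = true := ext_range (a := 1034) (len := 47) h22 x_22
  have h24 : ∀ u < 1128, (fun u => Nat.beq ((runT tab xw)^[11] u) u) u = true := ext_range (a := 1081) (len := 47) h23 x_23
  have h25 : ∀ u < 1175, (fun u => Nat.beq ((runT tab xw)^[11] u) u) u = true := ext_range (a := 1128) (len := 47) h24 x_24
  have h26 : ∀ u < 1222, (fun u => Nat.beq ((runT tab xw)^[11] u) u) u = true := ext_range (a := 1175) (len := 47) h25 x_25
  have h27 : ∀ u < 1269, (fun u => Nat.beq ((runT tab xw)^[11] u) u) u = true := ext_range (a := 1222) (len := 47) h26 x_26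
  have h28 : ∀ u < 1316, (fun u => Nat.beq ((runT tab xw)^[11] u) u) u = true := ext_range (a := 1269) (len := 47) h27 x_27
  have h29 : ∀ u < 1363, (fun u => Nat.beq ((runT tab xw)^[11] u) u) u = true := ext_range (a := 1316) (len := 47) h28 x_28
  have h30 : ∀ u < 1410, (fun u => Nat.beq ((runT tab xw)^[11] u) u) u = true := ext_range (a := 1363) (len := 47) h29 x_29
  have h31 : ∀ u < 1457, (fun u => Nat.beq ((runT tab xw)^[11] u) u) u = true := ext_range (a := 1410) (len := 47) h30 x_30
  have h32 : ∀ u < 1504, (fun u => Nat.beq ((runT tab xw)^[11] u) u) u = true := ext_range (a := 1457) (len := 47) h31 x_31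
  have h33 : ∀ u < 1551, (fun u => Nat.beq ((runT tab xw)^[11] u) u) u = true := ext_range (a := 1504) (len := 47) h32 x_32
  have h34 : ∀ u < 1598, (fun u => Nat.beq ((runT tab xw)^[11] u) u) u = true := ext_range (a := 1551) (len := 47) h33 x_33
  have h35 : ∀ u < 1645, (fun u => Nat.beq ((runT tab xw)^[11] u) u) u = true := ext_range (a := 1598) (len := 47) h34 x_34
  have h36 : ∀ u < 1692, (fun u => Nat.beq ((runT tab xw)^[11] u) u) u = true := ext_range (a := 1645) (len := 47) h35 x_35
  have h37 : ∀ u < 1739, (fun u => Nat.beq ((runT tab xw)^[11] u) u) u = true := ext_range (a := 1692) (len := 47) h36 x_36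
  have h38 : ∀ u < 1786, (fun u => Nat.beq ((runT tab xw)^[11] u) u) u = true := ext_range (a := 1739) (len := 47) h37 x_37
  have h39 : ∀ u < 1833, (fun u => Nat.beq ((runT tab xw)^[11] u) u) u = true := ext_range (a := 1786) (len := 47) h38 x_38
  have h40 : ∀ u < 1880, (fun u => Nat.beq ((runT tab xw)^[11] u) u) u = true := ext_range (a := 1833) (len := 47) h39 x_39
  have h41 : ∀ u < 1927, (fun u => Nat.beq ((runT tab xw)^[11] u) u) u = true := ext_range (a := 1880) (len := 47) h40 x_40
  have h42 : ∀ u < 1974, (fun u => Nat.beq ((runT tab xw)^[11] u) u) u = true := ext_range (a := 1927) (len := 47) h41 x_41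
  have h43 : ∀ u < 2021, (fun u => Nat.beq ((runT tab xw)^[11] u) u) u = true := ext_range (a := 1974) (len := 47) h42 x_42
  have h44 : ∀ u < 2068, (fun u => Nat.beq ((runT tab xw)^[11] u) u) u = true := ext_range (a := 2021) (len := 47) h43 x_43
  have h45 : ∀ u < 2115, (fun u => Nat.beq ((runT tab xw)^[11] u) u) u = true := ext_range (a := 2068) (len := 47) h44 x_44
  have h46 : ∀ u < 2162, (fun u => Nat.beq ((runT tab xw)^[11] u) u) u = true := ext_range (a := 2115) (len := 47) h45 x_45
  have h47 : ∀ u < 2209, (fun u => Nat.beq ((runT tab xw)^[11] u) u) u = true := ext_range (a := 2162) (len := 47) h46 x_46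
  have h48 : ∀ u < 2256, (fun u => Nat.beq ((runT tab xw)^[11] u) u) u = true := ext_range (a := 2209) (len := 47) h47 x_47
  have h49 : ∀ u < 2303, (fun u => Nat.beq ((runT tab xw)^[11] u) u) u = true := ext_range (a := 2256) (len := 47) h48 x_48
  have h50 : ∀ u < 2350, (fun u => Nat.beq ((runT tab xw)^[11] u) u) u = true := ext_range (a := 2303) (len := 47) h49 x_49
  have h51 : ∀ u < 2397, (fun u => Nat.beq ((runT tab xw)^[11] u) u) u = true := ext_range (a := 2350) (len := 47) h50 x_50
  have h52 : ∀ u < 2444, (fun u => Nat.beq ((runT tab xw)^[11] u) u) u = true := ext_range (a := 2397) (len := 47) h51 x_51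
  have h53 : ∀ u < 2491, (fun u => Nat.beq ((runT tab xw)^[11] u) u) u = true := ext_range (a := 2444) (len := 47) h52 x_52
  have h54 : ∀ u < 2538, (fun u => Nat.beq ((runT tab xw)^[11] u) u) u = true := ext_range (a := 2491) (len := 47) h53 x_53
  have h55 : ∀ u < 2585, (fun u => Nat.beq ((runT tab xw)^[11] u) u) u = true := ext_range (a := 2538) (len := 47) h54 x_54
  have h56 : ∀ u < 2632, (fun u => Nat.beq ((runT tab xw)^[11] u) u) u = true := ext_range (a := 2585) (len := 47) h55 x_55
  have h57 : ∀ u < 2679, (fun u => Nat.beq ((runT tab xw)^[11] u) u) u = true := ext_range (a := 2632) (len := 47) h56 x_56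
  have h58 : ∀ u < 2726, (fun u => Nat.beq ((runT tab xw)^[11] u) u) u = true := ext_range (a := 2679) (len := 47) h57 x_57
  have h59 : ∀ u < 2773, (fun u => Nat.beq ((runT tab xw)^[11] u) u) u = true := ext_range (a := 2726) (len := 47) h58 x_58
  have h60 : ∀ u < 2820, (fun u => Nat.beq ((runT tab xw)^[11] u) u) u = true := ext_range (a := 2773) (len := 47) h59 x_59
  have h61 : ∀ u < 2867, (fun u => Nat.beq ((runT tab xw)^[11] u) u) u = true := ext_range (a := 2820) (len := 47) h60 x_60
  have h62 : ∀ u < 2914, (fun u => Nat.beq ((runT tab xw)^[11] u) u) u = true := ext_range (a := 2867) (len := 47) h61 x_61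
  have h63 : ∀ u < 2961, (fun u => Nat.beq ((runT tab xw)^[11] u) u) u = true := ext_range (a := 2914) (len := 47) h62 x_62
  have h64 : ∀ u < 3008, (fun u => Nat.beq ((runT tab xw)^[11] u) u) u = true := ext_range (a := 2961) (len := 47) h63 x_63
  have h65 : ∀ u < 3055, (fun u => Nat.beq ((runT tab xw)^[11] u) u) u = true := ext_range (a := 3008) (len := 47) h64 x_64
  have h66 : ∀ u < 3102, (fun u => Nat.beq ((runT tab xw)^[11] u) u) u = true := ext_range (a := 3055) (len := 47) h65 x_65
  have h67 : ∀ u < 3149, (fun u => Nat.beq ((runT tab xw)^[11] u) u) u = true := ext_range (a := 3102) (len := 47) h66 x_66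
  have h68 : ∀ u < 3196, (fun u => Nat.beq ((runT tab xw)^[11] u) u) u = true := ext_range (a := 3149) (len := 47) h67 x_67
  have h69 : ∀ u < 3243, (fun u => Nat.beq ((runT tab xw)^[11] u) u) u = true := ext_range (a := 3196) (len := 47) h68 x_68
  have h70 : ∀ u < 3290, (fun u => Nat.beq ((runT tab xw)^[11] u) u) u = true := ext_range (a := 3243) (len := 47) h69 x_69
  have h71 : ∀ u < 3337, (fun u => Nat.beq ((runT tab xw)^[11] u) u) u = true := ext_range (a := 3290) (len := 47) h70 x_70
  have h72 : ∀ u < 3384, (fun u => Nat.beq ((runT tab xw)^[11] u) u) u = true := ext_range (a := 3337) (len := 47) h71 x_71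
  have h73 : ∀ u < 3431, (fun u => Nat.beq ((runT tab xw)^[11] u) u) u = true := ext_range (a := 3384) (len := 47) h72 x_72
  have h74 : ∀ u < 3478, (fun u => Nat.beq ((runT tab xw)^[11] u) u) u = true := ext_range (a := 3431) (len := 47) h73 x_73
  have h75 : ∀ u < 3525, (fun u => Nat.beq ((runT tab xw)^[11] u) u) u = true := ext_range (a := 3478) (len := 47) h74 x_74
  have h76 : ∀ u < 3572, (fun u => Nat.beq ((runT tab xw)^[11] u) u) u = true := ext_range (a := 3525) (len := 47) h75 x_75
  have h77 : ∀ u < 3619, (fun u => Nat.beq ((runT tab xw)^[11] u) u) u = true := ext_range (a := 3572) (len := 47) h76 x_76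
  have h78 : ∀ u < 3666, (fun u => Nat.beq ((runT tab xw)^[11] u) u) u = true := ext_range (a := 3619) (len := 47) h77 x_77
  have h79 : ∀ u < 3713, (fun u => Nat.beq ((runT tab xw)^[11] u) u) u = true := ext_range (a := 3666) (len := 47) h78 x_78
  have h80 : ∀ u < 3760, (fun u => Nat.beq ((runT tab xw)^[11] u) u) u = true := ext_range (a := 3713) (len := 47) h79 x_79
  have h81 : ∀ u < 3807, (fun u => Nat.beq ((runT tab xw)^[11] u) u) u = true := ext_range (a := 3760) (len := 47) h80 x_80
  have h82 : ∀ u < 3854, (fun u => Nat.beq ((runT tab xw)^[11] u) u) u = true := ext_range (a := 3807) (len := 47) h81 x_81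
  have h83 : ∀ u < 3901, (fun u => Nat.beq ((runT tab xw)^[11] u) u) u = true := ext_range (a := 3854) (len := 47) h82 x_82
  have h84 : ∀ u < 3948, (fun u => Nat.beq ((runT tab xw)^[11] u) u) u = true := ext_range (a := 3901) (len := 47) h83 x_83
  have h85 : ∀ u < 3995, (fun u => Nat.beq ((runT tab xw)^[11] u) u) u = true := ext_range (a := 3948) (len := 47) h84 x_84
  have h86 : ∀ u < 4042, (fun u => Nat.beq ((runT tab xw)^[11] u) u) u = true := ext_range (a := 3995) (len := 47) h85 x_85
  have h87 : ∀ u < 4089, (fun u => Nat.beq ((runT tab xw)^[11] u) u) u = true := ext_range (a := 4042) (len := 47) h86 x_86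
  have h88 : ∀ u < 4136, (fun u => Nat.beq ((runT tab xw)^[11] u) u) u = true := ext_range (a := 4089) (len := 47) h87 x_87
  have h89 : ∀ u < 4183, (fun u => Nat.beq ((runT tab xw)^[11] u) u) u = true := ext_range (a := 4136) (len := 47) h88 x_88
  have h90 : ∀ u < 4230, (fun u => Nat.beq ((runT tab xw)^[11] u) u) u = true := ext_range (a := 4183) (len := 47) h89 x_89
  have h91 : ∀ u < 4277, (fun u => Nat.beq ((runT tab xw)^[11] u) u) u = true := ext_range (a := 4230) (len := 47) h90 x_90
  have h92 : ∀ u < 4324, (fun u => Nat.beq ((runT tab xw)^[11] u) u) u = true := ext_range (a := 4277) (len := 47) h91 x_91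
  have h93 : ∀ u < 4371, (fun u => Nat.beq ((runT tab xw)^[11] u) u) u = true := ext_range (a := 4324) (len := 47) h92 x_92
  have h94 : ∀ u < 4418, (fun u => Nat.beq ((runT tab xw)^[11] u) u) u = true := ext_range (a := 4371) (len := 47) h93 x_93
  have h95 : ∀ u < 4465, (fun u => Nat.beq ((runT tab xw)^[11] u) u) u = true := ext_range (a := 4418) (len := 47) h94 x_94
  have h96 : ∀ u < 4512, (fun u => Nat.beq ((runT tab xw)^[11] u) u) u = true := ext_range (a := 4465) (len := 47) h95 x_95
  have h97 : ∀ u < 4559, (fun u => Nat.beq ((runT tab xw)^[11] u) u) u = true := ext_range (a := 4512) (len := 47) h96 x_96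
  have h98 : ∀ u < 4606, (fun u => Nat.beq ((runT tab xw)^[11] u) u) u = true := ext_range (a := 4559) (len := 47) h97 x_97
  have h99 : ∀ u < 4653, (fun u => Nat.beq ((runT tab xw)^[11] u) u) u = true := ext_range (a := 4606) (len := 47) h98 x_98
  have h100 : ∀ u < 4700, (fun u => Nat.beq ((runT tab xw)^[11] u) u) u = true := ext_range (a := 4653) (len := 47) h99 x_99
  have h101 : ∀ u < 4747, (fun u => Nat.beq ((runT tab xw)^[11] u) u) u = true := ext_range (a := 4700) (len := 47) h100 x_100
  have h102 : ∀ u < 4794, (fun u => Nat.beq ((runT tab xw)^[11] u) u) u = true := ext_range (a := 4747) (len := 47) h101 x_101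
  have h103 : ∀ u < 4841, (fun u => Nat.beq ((runT tab xw)^[11] u) u) u = true := ext_range (a := 4794) (len := 47) h102 x_102
  have h104 : ∀ u < 4888, (fun u => Nat.beq ((runT tab xw)^[11] u) u) u = true := ext_range (a := 4841) (len := 47) h103 x_103
  have h105 : ∀ u < 4935, (fun u => Nat.beq ((runT tab xw)^[11] u) u) u = true := ext_range (a := 4888) (len := 47) h104 x_104
  have h106 : ∀ u < 4982, (fun u => Nat.beq ((runT tab xw)^[11] u) u) u = true := ext_range (a := 4935) (len := 47) h105 x_105
  have h107 : ∀ u < 5029, (fun u => Nat.beq ((runT tab xw)^[11] u) u) u = true := ext_range (a := 4982) (len := 47) h106 x_106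
  have h108 : ∀ u < 5076, (fun u => Nat.beq ((runT tab xw)^[11] u) u) u = true := ext_range (a := 5029) (len := 47) h107 x_107
  have h109 : ∀ u < 5123, (fun u => Nat.beq ((runT tab xw)^[11] u) u) u = true := ext_range (a := 5076) (len := 47) h108 x_108
  have h110 : ∀ u < 5170, (fun u => Nat.beq ((runT tab xw)^[11] u) u) u = true := ext_range (a := 5123) (len := 47) h109 x_109
  have h111 : ∀ u < 5217, (fun u => Nat.beq ((runT tab xw)^[11] u) u) u = true := ext_range (a := 5170) (len := 47) h110 x_110
  have h112 : ∀ u < 5264, (fun u => Nat.beq ((runT tab xw)^[11] u) u) u = true := ext_range (a := 5217) (len := 47) h111 x_111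
  have h113 : ∀ u < 5311, (fun u => Nat.beq ((runT tab xw)^[11] u) u) u = true := ext_range (a := 5264) (len := 47) h112 x_112
  have h114 : ∀ u < 5358, (fun u => Nat.beq ((runT tab xw)^[11] u) u) u = true := ext_range (a := 5311) (len := 47) h113 x_113
  have h115 : ∀ u < 5405, (fun u => Nat.beq ((runT tab xw)^[11] u) u) u = true := ext_range (a := 5358) (len := 47) h114 x_114
  have h116 : ∀ u < 5452, (fun u => Nat.beq ((runT tab xw)^[11] u) u) u = true := ext_range (a := 5405) (len := 47) h115 x_115
  have h117 : ∀ u < 5499, (fun u => Nat.beq ((runT tab xw)^[11] u) u) u = true := ext_range (a := 5452) (len := 47) h116 x_116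
  have h118 : ∀ u < 5546, (fun u => Nat.beq ((runT tab xw)^[11] u) u) u = true := ext_range (a := 5499) (len := 47) h117 x_117
  have h119 : ∀ u < 5593, (fun u => Nat.beq ((runT tab xw)^[11] u) u) u = true := ext_range (a := 5546) (len := 47) h118 x_118
  have h120 : ∀ u < 5640, (fun u => Nat.beq ((runT tab xw)^[11] u) u) u = true := ext_range (a := 5593) (len := 47) h119 x_119
  have h121 : ∀ u < 5687, (fun u => Nat.beq ((runT tab xw)^[11] u) u) u = true := ext_range (a := 5640) (len := 47) h120 x_120
  have h122 : ∀ u < 5734, (fun u => Nat.beq ((runT tab xw)^[11] u) u) u = true := ext_range (a := 5687) (len := 47) h121 x_121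
  have h123 : ∀ u < 5781, (fun u => Nat.beq ((runT tab xw)^[11] u) u) u = true := ext_range (a := 5734) (len := 47) h122 x_122
  have h124 : ∀ u < 5828, (fun u => Nat.beq ((runT tab xw)^[11] u) u) u = true := ext_range (a := 5781) (len := 47) h123 x_123
  have h125 : ∀ u < 5875, (fun u => Nat.beq ((runT tab xw)^[11] u) u) u = true := ext_range (a := 5828) (len := 47) h124 x_124
  have h126 : ∀ u < 5922, (fun u => Nat.beq ((runT tab xw)^[11] u) u) u = true := ext_range (a := 5875) (len := 47) h125 x_125
  have h127 : ∀ u < 5969, (fun u => Nat.beq ((runT tab xw)^[11] u) u) u = true := ext_range (a := 5922) (len := 47) h126 x_126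
  have h128 : ∀ u < 6016, (fun u => Nat.beq ((runT tab xw)^[11] u) u) u = true := ext_range (a := 5969) (len := 47) h127 x_127
  have h129 : ∀ u < 6063, (fun u => Nat.beq ((runT tab xw)^[11] u) u) u = true := ext_range (a := 6016) (len := 47) h128 x_128
  have h130 : ∀ u < 6110, (fun u => Nat.beq ((runT tab xw)^[11] u) u) u = true := ext_range (a := 6063) (len := 47) h129 x_129
  have h131 : ∀ u < 6157, (fun u => Nat.beq ((runT tab xw)^[11] u) u) u = true := ext_range (a := 6110) (len := 47) h130 x_130
  have h132 : ∀ u < 6204, (fun u => Nat.beq ((runT tab xw)^[11] u) u) u = true := ext_range (a := 6157) (len := 47) h131 x_131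
  have h133 : ∀ u < 6251, (fun u => Nat.beq ((runT tab xw)^[11] u) u) u = true := ext_range (a := 6204) (len := 47) h132 x_132
  have h134 : ∀ u < 6298, (fun u => Nat.beq ((runT tab xw)^[11] u) u) u = true := ext_range (a := 6251) (len := 47) h133 x_133
  have h135 : ∀ u < 6345, (fun u => Nat.beq ((runT tab xw)^[11] u) u) u = true := ext_range (a := 6298) (len := 47) h134 x_134
  have h136 : ∀ u < 6392, (fun u => Nat.beq ((runT tab xw)^[11] u) u) u = true := ext_range (a := 6345) (len := 47) h135 x_135
  have h137 : ∀ u < 6439, (fun u => Nat.beq ((runT tab xw)^[11] u) u) u = true := ext_range (a := 6392) (len := 47) h136 x_136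
  have h138 : ∀ u < 6486, (fun u => Nat.beq ((runT tab xw)^[11] u) u) u = true := ext_range (a := 6439) (len := 47) h137 x_137
  have h139 : ∀ u < 6533, (fun u => Nat.beq ((runT tab xw)^[11] u) u) u = true := ext_range (a := 6486) (len := 47) h138 x_138
  have h140 : ∀ u < 6580, (fun u => Nat.beq ((runT tab xw)^[11] u) u) u = true := ext_range (a := 6533) (len := 47) h139 x_139
  have h141 : ∀ u < 6627, (fun u => Nat.beq ((runT tab xw)^[11] u) u) u = true := ext_range (a := 6580) (len := 47) h140 x_140
  have h142 : ∀ u < 6674, (fun u => Nat.beq ((runT tab xw)^[11] u) u) u = true := ext_range (a := 6627) (len := 47) h141 x_141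
  have h143 : ∀ u < 6721, (fun u => Nat.beq ((runT tab xw)^[11] u) u) u = true := ext_range (a := 6674) (len := 47) h142 x_142
  have h144 : ∀ u < 6768, (fun u => Nat.beq ((runT tab xw)^[11] u) u) u = true := ext_range (a := 6721) (len := 47) h143 x_143
  have h145 : ∀ u < 6815, (fun u => Nat.beq ((runT tab xw)^[11] u) u) u = true := ext_range (a := 6768) (len := 47) h144 x_144
  have h146 : ∀ u < 6862, (fun u => Nat.beq ((runT tab xw)^[11] u) u) u = true := ext_range (a := 6815) (len := 47) h145 x_145
  have h147 : ∀ u < 6909, (fun u => Nat.beq ((runT tab xw)^[11] u) u) u = true := ext_range (a := 6862) (len := 47) h146 x_146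
  have h148 : ∀ u < 6956, (fun u => Nat.beq ((runT tab xw)^[11] u) u) u = true := ext_range (a := 6909) (len := 47) h147 x_147
  have h149 : ∀ u < 7003, (fun u => Nat.beq ((runT tab xw)^[11] u) u) u = true := ext_range (a := 6956) (len := 47) h148 x_148
  have h150 : ∀ u < 7050, (fun u => Nat.beq ((runT tab xw)^[11] u) u) u = true := ext_range (a := 7003) (len := 47) h149 x_149
  have h151 : ∀ u < 7097, (fun u => Nat.beq ((runT tab xw)^[11] u) u) u = true := ext_range (a := 7050) (len := 47) h150 x_150
  have h152 : ∀ u < 7144, (fun u => Nat.beq ((runT tab xw)^[11] u) u) u = true := ext_range (a := 7097) (len := 47) h151 x_151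
  have h153 : ∀ u < 7191, (fun u => Nat.beq ((runT tab xw)^[11] u) u) u = true := ext_range (a := 7144) (len := 47) h152 x_152
  have h154 : ∀ u < 7238, (fun u => Nat.beq ((runT tab xw)^[11] u) u) u = true := ext_range (a := 7191) (len := 47) h153 x_153
  have h155 : ∀ u < 7285, (fun u => Nat.beq ((runT tab xw)^[11] u) u) u = true := ext_range (a := 7238) (len := 47) h154 x_154
  have h156 : ∀ u < 7332, (fun u => Nat.beq ((runT tab xw)^[11] u) u) u = true := ext_range (a := 7285) (len := 47) h155 x_155
  have h157 : ∀ u < 7379, (fun u => Nat.beq ((runT tab xw)^[11] u) u) u = true := ext_range (a := 7332) (len := 47) h156 x_156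
  have h158 : ∀ u < 7426, (fun u => Nat.beq ((runT tab xw)^[11] u) u) u = true := ext_range (a := 7379) (len := 47) h157 x_157
  have h159 : ∀ u < 7473, (fun u => Nat.beq ((runT tab xw)^[11] u) u) u = true := ext_range (a := 7426) (len := 47) h158 x_158
  have h160 : ∀ u < 7520, (fun u => Nat.beq ((runT tab xw)^[11] u) u) u = true := ext_range (a := 7473) (len := 47) h159 x_159
  have h161 : ∀ u < 7567, (fun u => Nat.beq ((runT tab xw)^[11] u) u) u = true := ext_range (a := 7520) (len := 47) h160 x_160
  have h162 : ∀ u < 7614, (fun u => Nat.beq ((runT tab xw)^[11] u) u) u = true := ext_range (a := 7567) (len := 47) h161 x_161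
  have h163 : ∀ u < 7661, (fun u => Nat.beq ((runT tab xw)^[11] u) u) u = true := ext_range (a := 7614) (len := 47) h162 x_162
  have h164 : ∀ u < 7708, (fun u => Nat.beq ((runT tab xw)^[11] u) u) u = true := ext_range (a := 7661) (len := 47) h163 x_163
  have h165 : ∀ u < 7755, (fun u => Nat.beq ((runT tab xw)^[11] u) u) u = true := ext_range (a := 7708) (len := 47) h164 x_164
  have h166 : ∀ u < 7802, (fun u => Nat.beq ((runT tab xw)^[11] u) u) u = true := ext_range (a := 7755) (len := 47) h165 x_165
  have h167 : ∀ u < 7849, (fun u => Nat.beq ((runT tab xw)^[11] u) u) u = true := ext_range (a := 7802) (len := 47) h166 x_166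
  have h168 : ∀ u < 7896, (fun u => Nat.beq ((runT tab xw)^[11] u) u) u = true := ext_range (a := 7849) (len := 47) h167 x_167
  have h169 : ∀ u < 7943, (fun u => Nat.beq ((runT tab xw)^[11] u) u) u = true := ext_range (a := 7896) (len := 47) h168 x_168
  have h170 : ∀ u < 7990, (fun u => Nat.beq ((runT tab xw)^[11] u) u) u = true := ext_range (a := 7943) (len := 47) h169 x_169
  have h171 : ∀ u < 8037, (fun u => Nat.beq ((runT tab xw)^[11] u) u) u = true := ext_range (a := 7990) (len := 47) h170 x_170
  have h172 : ∀ u < 8084, (fun u => Nat.beq ((runT tab xw)^[11] u) u) u = true := ext_range (a := 8037) (len := 47) h171 x_171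
  have h173 : ∀ u < 8131, (fun u => Nat.beq ((runT tab xw)^[11] u) u) u = true := ext_range (a := 8084) (len := 47) h172 x_172
  have h174 : ∀ u < 8178, (fun u => Nat.beq ((runT tab xw)^[11] u) u) u = true := ext_range (a := 8131) (len := 47) h173 x_173
  have h175 : ∀ u < 8225, (fun u => Nat.beq ((runT tab xw)^[11] u) u) u = true := ext_range (a := 8178) (len := 47) h174 x_174
  have h176 : ∀ u < 8272, (fun u => Nat.beq ((runT tab xw)^[11] u) u) u = true := ext_range (a := 8225) (len := 47) h175 x_175
  have h177 : ∀ u < 8319, (fun u => Nat.beq ((runT tab xw)^[11] u) u) u = true := ext_range (a := 8272) (len := 47) h176 x_176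
  have h178 : ∀ u < 8366, (fun u => Nat.beq ((runT tab xw)^[11] u) u) u = true := ext_range (a := 8319) (len := 47) h177 x_177
  have h179 : ∀ u < 8413, (fun u => Nat.beq ((runT tab xw)^[11] u) u) u = true := ext_range (a := 8366) (len := 47) h178 x_178
  have h180 : ∀ u < 8460, (fun u => Nat.beq ((runT tab xw)^[11] u) u) u = true := ext_range (a := 8413) (len := 47) h179 x_179
  have h181 : ∀ u < 8507, (fun u => Nat.beq ((runT tab xw)^[11] u) u) u = true := ext_range (a := 8460) (len := 47) h180 x_180
  have h182 : ∀ u < 8554, (fun u => Nat.beq ((runT tab xw)^[11] u) u) u = true := ext_range (a := 8507) (len := 47) h181 x_181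
  have h183 : ∀ u < 8601, (fun u => Nat.beq ((runT tab xw)^[11] u) u) u = true := ext_range (a := 8554) (len := 47) h182 x_182
  have h184 : ∀ u < 8648, (fun u => Nat.beq ((runT tab xw)^[11] u) u) u = true := ext_range (a := 8601) (len := 47) h183 x_183
  have h185 : ∀ u < 8695, (fun u => Nat.beq ((runT tab xw)^[11] u) u) u = true := ext_range (a := 8648) (len := 47) h184 x_184
  have h186 : ∀ u < 8742, (fun u => Nat.beq ((runT tab xw)^[11] u) u) u = true := ext_range (a := 8695) (len := 47) h185 x_185
  have h187 : ∀ u < 8789, (fun u => Nat.beq ((runT tab xw)^[11] u) u) u = true := ext_range (a := 8742) (len := 47) h186 x_186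
  have h188 : ∀ u < 8836, (fun u => Nat.beq ((runT tab xw)^[11] u) u) u = true := ext_range (a := 8789) (len := 47) h187 x_187
  have h189 : ∀ u < 8883, (fun u => Nat.beq ((runT tab xw)^[11] u) u) u = true := ext_range (a := 8836) (len := 47) h188 x_188
  have h190 : ∀ u < 8930, (fun u => Nat.beq ((runT tab xw)^[11] u) u) u = true := ext_range (a := 8883) (len := 47) h189 x_189
  have h191 : ∀ u < 8977, (fun u => Nat.beq ((runT tab xw)^[11] u) u) u = true := ext_range (a := 8930) (len := 47) h190 x_190
  have h192 : ∀ u < 9024, (fun u => Nat.beq ((runT tab xw)^[11] u) u) u = true := ext_range (a := 8977) (len := 47) h191 x_191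
  have h193 : ∀ u < 9071, (fun u => Nat.beq ((runT tab xw)^[11] u) u) u = true := ext_range (a := 9024) (len := 47) h192 x_192
  have h194 : ∀ u < 9118, (fun u => Nat.beq ((runT tab xw)^[11] u) u) u = true := ext_range (a := 9071) (len := 47) h193 x_193
  have h195 : ∀ u < 9165, (fun u => Nat.beq ((runT tab xw)^[11] u) u) u = true := ext_range (a := 9118) (len := 47) h194 x_194
  have h196 : ∀ u < 9212, (fun u => Nat.beq ((runT tab xw)^[11] u) u) u = true := ext_range (a := 9165) (len := 47) h195 x_195
  have h197 : ∀ u < 9259, (fun u => Nat.beq ((runT tab xw)^[11] u) u) u = true := ext_range (a := 9212) (len := 47) h196 x_196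
  have h198 : ∀ u < 9306, (fun u => Nat.beq ((runT tab xw)^[11] u) u) u = true := ext_range (a := 9259) (len := 47) h197 x_197
  have h199 : ∀ u < 9353, (fun u => Nat.beq ((runT tab xw)^[11] u) u) u = true := ext_range (a := 9306) (len := 47) h198 x_198
  have h200 : ∀ u < 9400, (fun u => Nat.beq ((runT tab xw)^[11] u) u) u = true := ext_range (a := 9353) (len := 47) h199 x_199
  have h201 : ∀ u < 9447, (fun u => Nat.beq ((runT tab xw)^[11] u) u) u = true := ext_range (a := 9400) (len := 47) h200 x_200
  have h202 : ∀ u < 9494, (fun u => Nat.beq ((runT tab xw)^[11] u) u) u = true := ext_range (a := 9447) (len := 47) h201 x_201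
  have h203 : ∀ u < 9541, (fun u => Nat.beq ((runT tab xw)^[11] u) u) u = true := ext_range (a := 9494) (len := 47) h202 x_202
  have h204 : ∀ u < 9588, (fun u => Nat.beq ((runT tab xw)^[11] u) u) u = true := ext_range (a := 9541) (len := 47) h203 x_203
  have h205 : ∀ u < 9635, (fun u => Nat.beq ((runT tab xw)^[11] u) u) u = true := ext_range (a := 9588) (len := 47) h204 x_204
  have h206 : ∀ u < 9682, (fun u => Nat.beq ((runT tab xw)^[11] u) u) u = true := ext_range (a := 9635) (len := 47) h205 x_205
  have h207 : ∀ u < 9729, (fun u => Nat.beq ((runT tab xw)^[11] u) u) u = true := ext_range (a := 9682) (len := 47) h206 x_206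
  have h208 : ∀ u < 9776, (fun u => Nat.beq ((runT tab xw)^[11] u) u) u = true := ext_range (a := 9729) (len := 47) h207 x_207
  have h209 : ∀ u < 9823, (fun u => Nat.beq ((runT tab xw)^[11] u) u) u = true := ext_range (a := 9776) (len := 47) h208 x_208
  have h210 : ∀ u < 9870, (fun u => Nat.beq ((runT tab xw)^[11] u) u) u = true := ext_range (a := 9823) (len := 47) h209 x_209
  have h211 : ∀ u < 9917, (fun u => Nat.beq ((runT tab xw)^[11] u) u) u = true := ext_range (a := 9870) (len := 47) h210 x_210
  have h212 : ∀ u < 9964, (fun u => Nat.beq ((runT tab xw)^[11] u) u) u = true := ext_range (a := 9917) (len := 47) h211 x_211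
  have h213 : ∀ u < 10011, (fun u => Nat.beq ((runT tab xw)^[11] u) u) u = true := ext_range (a := 9964) (len := 47) h212 x_212
  have h214 : ∀ u < 10058, (fun u => Nat.beq ((runT tab xw)^[11] u) u) u = true := ext_range (a := 10011) (len := 47) h213 x_213
  have h215 : ∀ u < 10105, (fun u => Nat.beq ((runT tab xw)^[11] u) u) u = true := ext_range (a := 10058) (len := 47) h214 x_214
  have h216 : ∀ u < 10152, (fun u => Nat.beq ((runT tab xw)^[11] u) u) u = true := ext_range (a := 10105) (len := 47) h215 x_215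
  have h217 : ∀ u < 10199, (fun u => Nat.beq ((runT tab xw)^[11] u) u) u = true := ext_range (a := 10152) (len := 47) h216 x_216
  have h218 : ∀ u < 10246, (fun u => Nat.beq ((runT tab xw)^[11] u) u) u = true := ext_range (a := 10199) (len := 47) h217 x_217
  have h219 : ∀ u < 10293, (fun u => Nat.beq ((runT tab xw)^[11] u) u) u = true := ext_range (a := 10246) (len := 47) h218 x_218
  have h220 : ∀ u < 10340, (fun u => Nat.beq ((runT tab xw)^[11] u) u) u = true := ext_range (a := 10293) (len := 47) h219 x_219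
  have h221 : ∀ u < 10387, (fun u => Nat.beq ((runT tab xw)^[11] u) u) u = true := ext_range (a := 10340) (len := 47) h220 x_220
  have h222 : ∀ u < 10434, (fun u => Nat.beq ((runT tab xw)^[11] u) u) u = true := ext_range (a := 10387) (len := 47) h221 x_221
  have h223 : ∀ u < 10481, (fun u => Nat.beq ((runT tab xw)^[11] u) u) u = true := ext_range (a := 10434) (len := 47) h222 x_222
  have h224 : ∀ u < 10528, (fun u => Nat.beq ((runT tab xw)^[11] u) u) u = true := ext_range (a := 10481) (len := 47) h223 x_223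
  have h225 : ∀ u < 10575, (fun u => Nat.beq ((runT tab xw)^[11] u) u) u = true := ext_range (a := 10528) (len := 47) h224 x_224
  have h226 : ∀ u < 10622, (fun u => Nat.beq ((runT tab xw)^[11] u) u) u = true := ext_range (a := 10575) (len := 47) h225 x_225
  have h227 : ∀ u < 10669, (fun u => Nat.beq ((runT tab xw)^[11] u) u) u = true := ext_range (a := 10622) (len := 47) h226 x_226
  have h228 : ∀ u < 10716, (fun u => Nat.beq ((runT tab xw)^[11] u) u) u = true := ext_range (a := 10669) (len := 47) h227 x_227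
  have h229 : ∀ u < 10763, (fun u => Nat.beq ((runT tab xw)^[11] u) u) u = true := ext_range (a := 10716) (len := 47) h228 x_228
  have h230 : ∀ u < 10810, (fun u => Nat.beq ((runT tab xw)^[11] u) u) u = true := ext_range (a := 10763) (len := 47) h229 x_229
  have h231 : ∀ u < 10857, (fun u => Nat.beq ((runT tab xw)^[11] u) u) u = true := ext_range (a := 10810) (len := 47) h230 x_230
  have h232 : ∀ u < 10904, (fun u => Nat.beq ((runT tab xw)^[11] u) u) u = true := ext_range (a := 10857) (len := 47) h231 x_231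
  have h233 : ∀ u < 10951, (fun u => Nat.beq ((runT tab xw)^[11] u) u) u = true := ext_range (a := 10904) (len := 47) h232 x_232
  have h234 : ∀ u < 10998, (fun u => Nat.beq ((runT tab xw)^[11] u) u) u = true := ext_range (a := 10951) (len := 47) h233 x_233
  have h235 : ∀ u < 11045, (fun u => Nat.beq ((runT tab xw)^[11] u) u) u = true := ext_range (a := 10998) (len := 47) h234 x_234
  have h236 : ∀ u < 11092, (fun u => Nat.beq ((runT tab xw)^[11] u) u) u = true := ext_range (a := 11045) (len := 47) h235 x_235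
  have h237 : ∀ u < 11139, (fun u => Nat.beq ((runT tab xw)^[11] u) u) u = true := ext_range (a := 11092) (len := 47) h236 x_236
  have h238 : ∀ u < 11186, (fun u => Nat.beq ((runT tab xw)^[11] u) u) u = true := ext_range (a := 11139) (len := 47) h237 x_237
  have h239 : ∀ u < 11233, (fun u => Nat.beq ((runT tab xw)^[11] u) u) u = true := ext_range (a := 11186) (len := 47) h238 x_238
  have h240 : ∀ u < 11280, (fun u => Nat.beq ((runT tab xw)^[11] u) u) u = true := ext_range (a := 11233) (len := 47) h239 x_239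
  have h241 : ∀ u < 11327, (fun u => Nat.beq ((runT tab xw)^[11] u) u) u = true := ext_range (a := 11280) (len := 47) h240 x_240
  have h242 : ∀ u < 11374, (fun u => Nat.beq ((runT tab xw)^[11] u) u) u = true := ext_range (a := 11327) (len := 47) h241 x_241
  have h243 : ∀ u < 11421, (fun u => Nat.beq ((runT tab xw)^[11] u) u) u = true := ext_range (a := 11374) (len := 47) h242 x_242
  have h244 : ∀ u < 11468, (fun u => Nat.beq ((runT tab xw)^[11] u) u) u = true := ext_range (a := 11421) (len := 47) h243 x_243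
  have h245 : ∀ u < 11515, (fun u => Nat.beq ((runT tab xw)^[11] u) u) u = true := ext_range (a := 11468) (len := 47) h244 x_244
  have h246 : ∀ u < 11562, (fun u => Nat.beq ((runT tab xw)^[11] u) u) u = true := ext_range (a := 11515) (len := 47) h245 x_245
  have h247 : ∀ u < 11609, (fun u => Nat.beq ((runT tab xw)^[11] u) u) u = true := ext_range (a := 11562) (len := 47) h246 x_246
  have h248 : ∀ u < 11656, (fun u => Nat.beq ((runT tab xw)^[11] u) u) u = true := ext_range (a := 11609) (len := 47) h247 x_247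
  have h249 : ∀ u < 11703, (fun u => Nat.beq ((runT tab xw)^[11] u) u) u = true := ext_range (a := 11656) (len := 47) h248 x_248
  have h250 : ∀ u < 11750, (fun u => Nat.beq ((runT tab xw)^[11] u) u) u = true := ext_range (a := 11703) (len := 47) h249 x_249
  have h251 : ∀ u < 11797, (fun u => Nat.beq ((runT tab xw)^[11] u) u) u = true := ext_range (a := 11750) (len := 47) h250 x_250
  have h252 : ∀ u < 11844, (fun u => Nat.beq ((runT tab xw)^[11] u) u) u = true := ext_range (a := 11797) (len := 47) h251 x_251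
  have h253 : ∀ u < 11891, (fun u => Nat.beq ((runT tab xw)^[11] u) u) u = true := ext_range (a := 11844) (len := 47) h252 x_252
  have h254 : ∀ u < 11938, (fun u => Nat.beq ((runT tab xw)^[11] u) u) u = true := ext_range (a := 11891) (len := 47) h253 x_253
  have h255 : ∀ u < 11985, (fun u => Nat.beq ((runT tab xw)^[11] u) u) u = true := ext_range (a := 11938) (len := 47) h254 x_254
  have h256 : ∀ u < 12032, (fun u => Nat.beq ((runT tab xw)^[11] u) u) u = true := ext_range (a := 11985) (len := 47) h255 x_255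
  have h257 : ∀ u < 12079, (fun u => Nat.beq ((runT tab xw)^[11] u) u) u = true := ext_range (a := 12032) (len := 47) h256 x_256
  have h258 : ∀ u < 12126, (fun u => Nat.beq ((runT tab xw)^[11] u) u) u = true := ext_range (a := 12079) (len := 47) h257 x_257
  have h259 : ∀ u < 12173, (fun u => Nat.beq ((runT tab xw)^[11] u) u) u = true := ext_range (a := 12126) (len := 47) h258 x_258
  have h260 : ∀ u < 12220, (fun u => Nat.beq ((runT tab xw)^[11] u) u) u = true := ext_range (a := 12173) (len := 47) h259 x_259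
  have h261 : ∀ u < 12267, (fun u => Nat.beq ((runT tab xw)^[11] u) u) u = true := ext_range (a := 12220) (len := 47) h260 x_260
  have h262 : ∀ u < 12314, (fun u => Nat.beq ((runT tab xw)^[11] u) u) u = true := ext_range (a := 12267) (len := 47) h261 x_261
  have h263 : ∀ u < 12361, (fun u => Nat.beq ((runT tab xw)^[11] u) u) u = true := ext_range (a := 12314) (len := 47) h262 x_262
  have h264 : ∀ u < 12408, (fun u => Nat.beq ((runT tab xw)^[11] u) u) u = true := ext_range (a := 12361) (len := 47) h263 x_263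
  have h265 : ∀ u < 12455, (fun u => Nat.beq ((runT tab xw)^[11] u) u) u = true := ext_range (a := 12408) (len := 47) h264 x_264
  have h266 : ∀ u < 12502, (fun u => Nat.beq ((runT tab xw)^[11] u) u) u = true := ext_range (a := 12455) (len := 47) h265 x_265
  have h267 : ∀ u < 12549, (fun u => Nat.beq ((runT tab xw)^[11] u) u) u = true := ext_range (a := 12502) (len := 47) h266 x_266
  have h268 : ∀ u < 12596, (fun u => Nat.beq ((runT tab xw)^[11] u) u) u = true := ext_range (a := 12549) (len := 47) h267 x_267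
  have h269 : ∀ u < 12643, (fun u => Nat.beq ((runT tab xw)^[11] u) u) u = true := ext_range (a := 12596) (len := 47) h268 x_268
  have h270 : ∀ u < 12690, (fun u => Nat.beq ((runT tab xw)^[11] u) u) u = true := ext_range (a := 12643) (len := 47) h269 x_269
  have h271 : ∀ u < 12737, (fun u => Nat.beq ((runT tab xw)^[11] u) u) u = true := ext_range (a := 12690) (len := 47) h270 x_270
  have h272 : ∀ u < 12784, (fun u => Nat.beq ((runT tab xw)^[11] u) u) u = true := ext_range (a := 12737) (len := 47) h271 x_271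
  have h273 : ∀ u < 12831, (fun u => Nat.beq ((runT tab xw)^[11] u) u) u = true := ext_range (a := 12784) (len := 47) h272 x_272
  have h274 : ∀ u < 12878, (fun u => Nat.beq ((runT tab xw)^[11] u) u) u = true := ext_range (a := 12831) (len := 47) h273 x_273
  have h275 : ∀ u < 12925, (fun u => Nat.beq ((runT tab xw)^[11] u) u) u = true := ext_range (a := 12878) (len := 47) h274 x_274
  have h276 : ∀ u < 12972, (fun u => Nat.beq ((runT tab xw)^[11] u) u) u = true := ext_range (a := 12925) (len := 47) h275 x_275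
  have h277 : ∀ u < 13019, (fun u => Nat.beq ((runT tab xw)^[11] u) u) u = true := ext_range (a := 12972) (len := 47) h276 x_276
  have h278 : ∀ u < 13066, (fun u => Nat.beq ((runT tab xw)^[11] u) u) u = true := ext_range (a := 13019) (len := 47) h277 x_277
  have h279 : ∀ u < 13113, (fun u => Nat.beq ((runT tab xw)^[11] u) u) u = true := ext_range (a := 13066) (len := 47) h278 x_278
  have h280 : ∀ u < 13160, (fun u => Nat.beq ((runT tab xw)^[11] u) u) u = true := ext_range (a := 13113) (len := 47) h279 x_279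
  have h281 : ∀ u < 13207, (fun u => Nat.beq ((runT tab xw)^[11] u) u) u = true := ext_range (a := 13160) (len := 47) h280 x_280
  have h282 : ∀ u < 13254, (fun u => Nat.beq ((runT tab xw)^[11] u) u) u = true := ext_range (a := 13207) (len := 47) h281 x_281
  have h283 : ∀ u < 13301, (fun u => Nat.beq ((runT tab xw)^[11] u) u) u = true := ext_range (a := 13254) (len := 47) h282 x_282
  have h284 : ∀ u < 13348, (fun u => Nat.beq ((runT tab xw)^[11] u) u) u = true := ext_range (a := 13301) (len := 47) h283 x_283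
  have h285 : ∀ u < 13395, (fun u => Nat.beq ((runT tab xw)^[11] u) u) u = true := ext_range (a := 13348) (len := 47) h284 x_284
  have h286 : ∀ u < 13442, (fun u => Nat.beq ((runT tab xw)^[11] u) u) u = true := ext_range (a := 13395) (len := 47) h285 x_285
  have h287 : ∀ u < 13489, (fun u => Nat.beq ((runT tab xw)^[11] u) u) u = true := ext_range (a := 13442) (len := 47) h286 x_286
  have h288 : ∀ u < 13536, (fun u => Nat.beq ((runT tab xw)^[11] u) u) u = true := ext_range (a := 13489) (len := 47) h287 x_287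
  have h289 : ∀ u < 13583, (fun u => Nat.beq ((runT tab xw)^[11] u) u) u = true := ext_range (a := 13536) (len := 47) h288 x_288
  have h290 : ∀ u < 13630, (fun u => Nat.beq ((runT tab xw)^[11] u) u) u = true := ext_range (a := 13583) (len := 47) h289 x_289
  have h291 : ∀ u < 13677, (fun u => Nat.beq ((runT tab xw)^[11] u) u) u = true := ext_range (a := 13630) (len := 47) h290 x_290
  have h292 : ∀ u < 13724, (fun u => Nat.beq ((runT tab xw)^[11] u) u) u = true := ext_range (a := 13677) (len := 47) h291 x_291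
  have h293 : ∀ u < 13771, (fun u => Nat.beq ((runT tab xw)^[11] u) u) u = true := ext_range (a := 13724) (len := 47) h292 x_292
  have h294 : ∀ u < 13818, (fun u => Nat.beq ((runT tab xw)^[11] u) u) u = true := ext_range (a := 13771) (len := 47) h293 x_293
  have h295 : ∀ u < 13865, (fun u => Nat.beq ((runT tab xw)^[11] u) u) u = true := ext_range (a := 13818) (len := 47) h294 x_294
  have h296 : ∀ u < 13912, (fun u => Nat.beq ((runT tab xw)^[11] u) u) u = true := ext_range (a := 13865) (len := 47) h295 x_295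
  have h297 : ∀ u < 13959, (fun u => Nat.beq ((runT tab xw)^[11] u) u) u = true := ext_range (a := 13912) (len := 47) h296 x_296
  have h298 : ∀ u < 14006, (fun u => Nat.beq ((runT tab xw)^[11] u) u) u = true := ext_range (a := 13959) (len := 47) h297 x_297
  have h299 : ∀ u < 14053, (fun u => Nat.beq ((runT tab xw)^[11] u) u) u = true := ext_range (a := 14006) (len := 47) h298 x_298
  have h300 : ∀ u < 14080, (fun u => Nat.beq ((runT tab xw)^[11] u) u) u = true := ext_range (a := 14053) (len := 27) h299 x_299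
  exact h300

theorem hE : ∀ c < 9, ∀ u < 20011, chkE tab c u = true := by
  intro c hc
  interval_cases c
  · exact hE0
  · exact hE1
  · exact hE2
  · exact hE3
  · exact hE4
  · exact hE5
  · exact hE6
  · exact hE7
  · exact hE8

end Cfsg.Agent.Helper9.TCData.Fi22C0
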