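import Cfsg.Agent.Lib.Helper9.TCData.Fi22C0.Main

set_option autoImplicit false
set_option maxRecDepth 1000000

namespace Cfsg.Agent.Helper9.TCData.Fi22C0
open Cfsg.Agent.Helper9.TC2

theorem m1_16 : allRange 11328 708 (fun u => chkM1 tab u) = true := by decide +kernel

theorem m1_17 : allRange 12036 708 (fun u => chkM1 tab u) = true := by decide +kernel

theorem m1_18 : allRange 12744 708 (fun u => chkM1 tab u) = true := by decide +kernel

theorem m1_19 : allRange 13452 628 (fun u => chkM1 tab u) = true := by decide +kernel

theorem ma_0 : allRange 0 507 (fun u => chkAux tab aux u) = true := by decide +kernel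

theorem ma_1 : allRange 507 507 (fun u => chkAux tab aux u) = true := by decide +kernel

theorem ma_2 : allRange 1014 507 (fun u => chkAux tab aux u) = true := by decide +kernel

theorem ma_3 : allRange 1521 507 (fun u => chkAux tab aux u) = true := by decide +kernel


end Cfsg.Agent.Helper9.TCData.Fi22C0
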