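import Cfsg.Agent.Lib.Helper9.TCData.Fi22C0.Main

set_option autoImplicit false
set_option maxRecDepth 1000000

namespace Cfsg.Agent.Helper9.TCData.Fi22C0
open Cfsg.Agent.Helper9.TC2

theorem tr1x_9 : allRange 9000 1000 (fun u => chkTree tab (lidx 1) (lpar 1) (lgi 1) 1 [1, 2, 3, 4, 5, 6, 7, 8] u) = true := by decide +kernel

theorem tr1x_10 : allRange 10000 1000 (fun u => chkTree tab (lidx 1) (lpar 1) (lgi 1) 1 [1, 2, 3, 4, 5, 6, 7, 8] u) = true := by decide +kernel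

theorem tr1x_11 : allRange 11000 1000 (fun u => chkTree tab (lidx 1) (lpar 1) (lgi 1) 1 [1, 2, 3, 4, 5, 6, 7, 8] u) = true := by decide +kernel

theorem tr1x_12 : allRange 12000 1000 (fun u => chkTree tab (lidx 1) (lpar 1) (lgi 1) 1 [1, 2, 3, 4, 5, 6, 7, 8] u) = true := by decide +kernel

theorem tr1x_13 : allRange 13000 1000 (fun u => chkTree tab (lidx 1) (lpar 1) (lgi 1) 1 [1, 2, 3, 4, 5, 6, 7, 8] u) = true := by decide +kernel

theorem tr1x_14 : allRange 14000 80 (fun u => chkTree tab (lidx 1) (lpar 1) (lgi 1) 1 [1, 2, 3, 4, 5, 6, 7, 8] u) = true := by decide +kernel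

theorem tr2x_0 : allRange 0 1000 (fun u => chkTree tab (lidx 2) (lpar 2) (lgi 2) 2 [2, 3, 4, 5, 6, 7, 8] u) = true := by decide +kernel

theorem tr2x_1 : allRange 1000 1000 (fun u => chkTree tab (lidx 2) (lpar 2) (lgi 2) 2 [2, 3, 4, 5, 6, 7, 8] u) = true := by decide +kernel


end Cfsg.Agent.Helper9.TCData.Fi22C0
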